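import Groth.Agent.Tors32.Glue

/-!
Sections of the quotient glued from local lifts on covers of constant rank.
-/

set_option autoImplicit false
set_option backward.isDefEq.respectTransparency false
universe u

open CategoryTheory CategoryTheory.Limits AlgebraicGeometry Opposite TensorProduct
open Groth.Agent.DualTor32 (spO topO spOMap pr₁ pr₂ pair_lift)

noncomputable section

namespace Groth.Agent.Tors32

variable {A : Type u} [CommRing A] {V : Type u} {O : V → Type u} [∀ v, CommRing (O v)] [∀ v, Algebra A (O v)]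

/-- The basis of a product of free algebras of the same rank. -/
theorem exists_pi_basis (hπ : Function.Bijective (RingHom.pi fun v => algebraMap A (O v))) {L : V → Type u}
    [∀ v, CommRing (L v)] [∀ v, Algebra (O v) (L v)] [∀ v, Algebra A (L v)] [∀ v, IsScalarTower A (O v) (L v)]
    {r : ℕ} (b : ∀ v, Module.Basis (Fin r) (O v) (L v)) :
    ∃ e : Module.Basis (Fin r) A (∀ v, L v), ∀ i v, e i v = b v i := by
  let φ : (Fin r → A) →ₗ[A] ∀ v, L v := Fintype.linearCombination A fun i => fun v => b v i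
  have hφ : ∀ a v, φ a v = ∑ i, algebraMap A (O v) (a i) • b v i := fun a v => by
    simp [φ, Fintype.linearCombination_apply, algebraMap_smul]
  have hb : Function.Bijective φ := by
    refine ⟨fun a a' h => funext fun i => hπ.1 (funext fun v => ?_), fun y => ?_⟩
    · have := congrArg (fun z => (b v).repr z i) (((hφ a v).symm.trans (congrFun h v)).trans (hφ a' v))
      show algebraMap A (O v) (a i) = algebraMap A (O v) (a' i)
      simpa only [Module.Basis.repr_sum_self] using this
    · choose a ha using fun i => hπ.2 fun v => (b v).repr (y v) i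
      refine ⟨a, funext fun v => ?_⟩
      rw [hφ]
      exact (Finset.sum_congr rfl fun i _ => by rw [show algebraMap A (O v) (a i) = _ from congrFun (ha i) v]).trans
        ((b v).sum_repr (y v))
  refine ⟨Module.Basis.ofEquivFun (LinearEquiv.ofBijective φ hb).symm, fun i v => ?_⟩
  classical
  rw [Module.Basis.coe_ofEquivFun]
  show φ (Pi.single i 1) v = _
  simp [φ, Fintype.linearCombination_apply_single]

section

variable (L : V → Type u) [∀ v, CommRing (L v)] [∀ v, Algebra (O v) (L v)] [∀ v, Algebra A (L v)]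
  [∀ v, IsScalarTower A (O v) (L v)]

/-- The component of a pair of families. -/
def pairHom (v : V) : (∀ w, L w) ⊗[A] (∀ w, L w) →ₐ[A] L v ⊗[O v] L v :=
  Algebra.TensorProduct.lift
    (((Algebra.TensorProduct.includeLeft : L v →ₐ[O v] L v ⊗[O v] L v).restrictScalars A).comp (Pi.evalAlgHom A L v))
    (((Algebra.TensorProduct.includeRight : L v →ₐ[O v] L v ⊗[O v] L v).restrictScalars A).comp (Pi.evalAlgHom A L v))
    fun _ _ => Commute.all _ _

@[simp]
theorem pairHom_tmul (v : V) (x y : ∀ w, L w) : pairHom (O := O) L v (x ⊗ₜ[A] y) = x v ⊗ₜ[O v] y v := by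
  rw [pairHom, Algebra.TensorProduct.lift_tmul]
  show (x v ⊗ₜ[O v] (1 : L v)) * ((1 : L v) ⊗ₜ[O v] y v) = _
  rw [Algebra.TensorProduct.tmul_mul_tmul, mul_one, one_mul]

/-- The component of a triple of families. -/
def tripleHom (v : V) : ((∀ w, L w) ⊗[A] (∀ w, L w)) ⊗[A] (∀ w, L w) →ₐ[A] (L v ⊗[O v] L v) ⊗[O v] L v :=
  Algebra.TensorProduct.lift
    (((Algebra.TensorProduct.includeLeft : L v ⊗[O v] L v →ₐ[O v] (L v ⊗[O v] L v) ⊗[O v] L v).restrictScalars A).comp
      (pairHom L v))
    (((Algebra.TensorProduct.includeRight : L v →ₐ[O v] (L v ⊗[O v] L v) ⊗[O v] L v).restrictScalars A).comp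
      (Pi.evalAlgHom A L v))
    fun _ _ => Commute.all _ _

@[simp]
theorem tripleHom_tmul (v : V) (x y z : ∀ w, L w) :
    tripleHom (O := O) L v ((x ⊗ₜ[A] y) ⊗ₜ[A] z) = (x v ⊗ₜ[O v] y v) ⊗ₜ[O v] z v := by
  rw [tripleHom, Algebra.TensorProduct.lift_tmul]
  show (pairHom (O := O) L v (x ⊗ₜ[A] y) ⊗ₜ[O v] (1 : L v)) * (1 ⊗ₜ[O v] z v) = _
  rw [Algebra.TensorProduct.tmul_mul_tmul, mul_one, one_mul, pairHom_tmul]

variable {r : ℕ} (b : ∀ v, Module.Basis (Fin r) (O v) (L v))

include b in
theorem pairHom_bijective (hπ : Function.Bijective (RingHom.pi fun v => algebraMap A (O v))) :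
    Function.Bijective (RingHom.pi fun v => (pairHom (A := A) (O := O) L v).toRingHom) := by
  obtain ⟨e, he⟩ := exists_pi_basis hπ b
  refine bijective_pi_of_basis (Mv := fun v => L v ⊗[O v] L v) (fun v => algebraMap A (O v)) hπ (e.tensorProduct e)
    (fun v => (b v).tensorProduct (b v)) (fun v => (pairHom (A := A) (O := O) L v).toRingHom.toAddMonoidHom)
    (fun v a m => ?_) (fun v i => ?_)
  · show pairHom (O := O) L v (a • m) = _
    rw [map_smul, algebraMap_smul]
    rfl
  · show pairHom (O := O) L v _ = _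
    simp [Module.Basis.tensorProduct_apply', he]

include b in
theorem tripleHom_bijective (hπ : Function.Bijective (RingHom.pi fun v => algebraMap A (O v))) :
    Function.Bijective (RingHom.pi fun v => (tripleHom (A := A) (O := O) L v).toRingHom) := by
  obtain ⟨e, he⟩ := exists_pi_basis hπ b
  let e₃ : Module.Basis _ A (((∀ w, L w) ⊗[A] (∀ w, L w)) ⊗[A] (∀ w, L w)) := (e.tensorProduct e).tensorProduct e
  refine bijective_pi_of_basis (M := ((∀ w, L w) ⊗[A] (∀ w, L w)) ⊗[A] (∀ w, L w))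
    (Mv := fun v => (L v ⊗[O v] L v) ⊗[O v] L v) (fun v => algebraMap A (O v)) hπ
    e₃ (fun v => ((b v).tensorProduct (b v)).tensorProduct (b v))
    (fun v => (tripleHom (A := A) (O := O) L v).toRingHom.toAddMonoidHom) (fun v a m => ?_) (fun v i => ?_)
  · show tripleHom (O := O) L v (a • m) = _
    rw [map_smul, algebraMap_smul]
    rfl
  · show tripleHom (O := O) L v _ = _
    simp [e₃, Module.Basis.tensorProduct_apply', he]

variable (A) in
abbrev f₁₂ (C : Type u) [CommRing C] [Algebra A C] : C ⊗[A] C →ₐ[A] (C ⊗[A] C) ⊗[A] C :=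
  Algebra.TensorProduct.includeLeft

variable (A) in
abbrev f₂₃ (C : Type u) [CommRing C] [Algebra A C] : C ⊗[A] C →ₐ[A] (C ⊗[A] C) ⊗[A] C :=
  Algebra.TensorProduct.map (Algebra.TensorProduct.includeRight : C →ₐ[A] C ⊗[A] C) (AlgHom.id A C)

variable (A) in
abbrev f₁₃ (C : Type u) [CommRing C] [Algebra A C] : C ⊗[A] C →ₐ[A] (C ⊗[A] C) ⊗[A] C :=
  Algebra.TensorProduct.map (Algebra.TensorProduct.includeLeft : C →ₐ[A] C ⊗[A] C) (AlgHom.id A C)

theorem tripleHom_f₁₂ (v : V) : (tripleHom (A := A) (O := O) L v).comp (f₁₂ A (∀ w, L w)) =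
    ((f₁₂ (O v) (L v)).restrictScalars A).comp (pairHom L v) := by
  refine Algebra.TensorProduct.ext' fun x y => ?_
  show tripleHom (O := O) L v ((x ⊗ₜ[A] y) ⊗ₜ[A] 1) = pairHom (O := O) L v (x ⊗ₜ[A] y) ⊗ₜ[O v] 1
  rw [tripleHom_tmul, pairHom_tmul]
  rfl

theorem tripleHom_f₂₃ (v : V) : (tripleHom (A := A) (O := O) L v).comp (f₂₃ A (∀ w, L w)) =
    ((f₂₃ (O v) (L v)).restrictScalars A).comp (pairHom L v) := by
  refine Algebra.TensorProduct.ext' fun x y => ?_
  show tripleHom (O := O) L v ((1 ⊗ₜ[A] x) ⊗ₜ[A] y) = f₂₃ (O v) (L v) (pairHom (O := O) L v (x ⊗ₜ[A] y))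
  rw [tripleHom_tmul, pairHom_tmul]
  rfl

theorem tripleHom_f₁₃ (v : V) : (tripleHom (A := A) (O := O) L v).comp (f₁₃ A (∀ w, L w)) =
    ((f₁₃ (O v) (L v)).restrictScalars A).comp (pairHom L v) := by
  refine Algebra.TensorProduct.ext' fun x y => ?_
  show tripleHom (O := O) L v ((x ⊗ₜ[A] 1) ⊗ₜ[A] y) = f₁₃ (O v) (L v) (pairHom (O := O) L v (x ⊗ₜ[A] y))
  rw [tripleHom_tmul, pairHom_tmul]
  rfl

end

variable {A₀ : Type u} [CommRing A₀] [Algebra A₀ A] (G : Over (Spec (CommRingCat.of A₀))) [GrpObj G]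
  [IsCommMonObj G] [IsAffine G.left]
variable {I Qs : BigSite.Ab Scheme.fppfPrecoverage (Spec (CommRingCat.of A))} [Injective I] {inc : FA (A := A) G ⟶ I}
  {prj : I ⟶ Qs} {w : inc ≫ prj = 0} (hS : (ShortComplex.mk inc prj w).ShortExact)

include hS in
/-- A glued family of differences is a cocycle. -/
theorem glue_cocycle (hπ : Function.Bijective (RingHom.pi fun v => algebraMap A (O v))) (L : V → Type u)
    [∀ v, CommRing (L v)] [∀ v, Algebra (O v) (L v)] [∀ v, Algebra A (L v)] [∀ v, IsScalarTower A (O v) (L v)]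
    {r : ℕ} (b : ∀ v, Module.Basis (Fin r) (O v) (L v)) (t : ∀ v, I.obj.obj (op (spO (A := A) (L v))))
    (d : (FA (A := A) G).obj.obj (op (spO (A := A) ((∀ w, L w) ⊗[A] (∀ w, L w)))))
    (hd : ∀ v, inc.hom.app (op (spO (A := A) (L v ⊗[O v] L v)))
        ((FA (A := A) G).obj.map (spOMap _ (pairHom (A := A) (O := O) L v)).op d) =
      I.obj.map (pr₂ (O v) (L v)).op (t v) - I.obj.map (pr₁ (O v) (L v)).op (t v)) :
    (FA (A := A) G).obj.map (spOMap _ (f₁₃ A (∀ w, L w))).op d =
      (FA (A := A) G).obj.map (spOMap _ (f₁₂ A (∀ w, L w))).op d +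
      (FA (A := A) G).obj.map (spOMap _ (f₂₃ A (∀ w, L w))).op d := by
  refine sec_ext G (fun v => tripleHom (A := A) (O := O) L v) (tripleHom_bijective L b hπ).1 fun v => ?_
  rw [map_add, map_spOMap_comp, map_spOMap_comp, map_spOMap_comp, tripleHom_f₁₂, tripleHom_f₂₃, tripleHom_f₁₃]
  have hinj : ∀ Z, Function.Injective (inc.hom.app (op Z)) := fun Z => app_f_injective hS Z
  have hd' : ∀ {Z : Over (Spec (CommRingCat.of A))} (k : Z ⟶ spO (A := A) (L v ⊗[O v] L v)),
      inc.hom.app (op Z) ((FA (A := A) G).obj.map k.op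
          ((FA (A := A) G).obj.map (spOMap _ (pairHom (A := A) (O := O) L v)).op d)) =
        I.obj.map k.op (I.obj.map (pr₂ (O v) (L v)).op (t v)) - I.obj.map k.op (I.obj.map (pr₁ (O v) (L v)).op (t v)) :=
    fun k => by rw [app_map inc k, hd, map_sub]
  apply hinj
  rw [map_add, ← map_spOMap_comp, ← map_spOMap_comp, ← map_spOMap_comp, hd', hd', hd', map_map_apply, map_map_apply, map_map_apply, map_map_apply, map_map_apply,
    map_map_apply]
  simp only [pr₁, pr₂, spOMap_comp]
  have e1 : ((f₁₂ (O v) (L v)).restrictScalars A).comp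
      ((Algebra.TensorProduct.includeLeft : L v →ₐ[O v] L v ⊗[O v] L v).restrictScalars A) =
    ((f₁₃ (O v) (L v)).restrictScalars A).comp
      ((Algebra.TensorProduct.includeLeft : L v →ₐ[O v] L v ⊗[O v] L v).restrictScalars A) := AlgHom.ext fun x => rfl
  have e2 : ((f₁₂ (O v) (L v)).restrictScalars A).comp
      ((Algebra.TensorProduct.includeRight : L v →ₐ[O v] L v ⊗[O v] L v).restrictScalars A) =
    ((f₂₃ (O v) (L v)).restrictScalars A).comp
      ((Algebra.TensorProduct.includeLeft : L v →ₐ[O v] L v ⊗[O v] L v).restrictScalars A) := AlgHom.ext fun x => rfl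
  have e3 : ((f₁₃ (O v) (L v)).restrictScalars A).comp
      ((Algebra.TensorProduct.includeRight : L v →ₐ[O v] L v ⊗[O v] L v).restrictScalars A) =
    ((f₂₃ (O v) (L v)).restrictScalars A).comp
      ((Algebra.TensorProduct.includeRight : L v →ₐ[O v] L v ⊗[O v] L v).restrictScalars A) := AlgHom.ext fun x => rfl
  rw [← e1, e3, e2]
  abel

include hS in
/-- Local classes killed by covers of constant rank come from a global class. -/
theorem exists_glue [Nonempty V] (hπ : Function.Bijective (RingHom.pi fun v => algebraMap A (O v))) (L : V → Type u)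
    [∀ v, CommRing (L v)] [∀ v, Algebra (O v) (L v)] [∀ v, Algebra A (L v)] [∀ v, IsScalarTower A (O v) (L v)]
    [∀ v, Nontrivial (L v)] {r : ℕ} (b : ∀ v, Module.Basis (Fin r) (O v) (L v))
    (qv : ∀ v, Qs.obj.obj (op (spO (A := A) (O v)))) (t : ∀ v, I.obj.obj (op (spO (A := A) (L v))))
    (ht : ∀ v, prj.hom.app (op (spO (A := A) (L v))) (t v) = Qs.obj.map (spStr (O v) (L v)).op (qv v)) :
    ∃ q : Qs.obj.obj (op (topO A)), ∀ v,
      ∃ s, prj.hom.app (op (spO (A := A) (O v))) s = resTop Qs (spO (A := A) (O v)) q - qv v := by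
  have : Nontrivial (∀ v, L v) := Pi.nontrivial_at (Classical.arbitrary V)
  obtain ⟨e, -⟩ := exists_pi_basis hπ b
  let C := ∀ v, L v
  have : Module.Free A C := Module.Free.of_basis e
  have : Module.Finite A C := Module.Finite.of_basis e
  have : ∀ v, Module.Free (O v) (L v) := fun v => Module.Free.of_basis (b v)
  have : ∀ v, Module.Finite (O v) (L v) := fun v => Module.Finite.of_basis (b v)
  have : IsIso (Spec.map (CommRingCat.ofHom (algebraMap A A))) := by
    rw [show CommRingCat.ofHom (algebraMap A A) = 𝟙 _ from rfl, Spec.map_id]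
    infer_instance
  let χ : ∀ v, C →ₐ[A] L v := fun v => Pi.evalAlgHom A L v
  have hdv : ∀ v, ∃ d, inc.hom.app (op (spO (A := A) (L v ⊗[O v] L v))) d =
      I.obj.map (pr₂ (O v) (L v)).op (t v) - I.obj.map (pr₁ (O v) (L v)).op (t v) := fun v =>
    exists_app_f_eq hS (by
      show prj.hom.app _ _ = 0
      rw [map_sub, app_map, app_map, ht, map_map_apply, map_map_apply, sub_eq_zero, spStr, spOMap_comp, spOMap_comp]
      exact congrArg (fun φ => Qs.obj.map (spOMap (O v) φ).op (qv v)) (AlgHom.ext fun x =>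
        ((Algebra.TensorProduct.includeRight : L v →ₐ[O v] L v ⊗[O v] L v).commutes x).trans
          ((Algebra.TensorProduct.includeLeft : L v →ₐ[O v] L v ⊗[O v] L v).commutes x).symm))
  choose dv hdv using hdv
  obtain ⟨d, hd⟩ := sec_exists G (fun v => pairHom (A := A) (O := O) L v) (pairHom_bijective L b hπ) dv
  have hcoc := glue_cocycle G hS hπ L b t d fun v => by rw [hd, hdv]
  let W := spO (A := A) C
  let c := inc.hom.app (op (spO (A := A) (C ⊗[A] C))) d
  obtain ⟨τ, hτ⟩ := exists_coboundary_of_injective (W := W) I (singleton_cover (A := A) C)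
    (pr₁ A C) (pr₂ A C) (fun Z a b => pair_lift A C Z a b) c fun Z q₁₂ q₂₃ q₁₃ e₁ e₂ e₃ => by
      have hw : q₁₂ ≫ spStr A (C ⊗[A] C) = (q₂₃ ≫ pr₂ A C) ≫ spStr A C := by
        apply Over.OverMorphism.ext
        exact (Over.w q₁₂).trans (Over.w (q₂₃ ≫ pr₂ A C)).symm
      obtain ⟨h, h₁, h₂⟩ := exists_pairPt A (C ⊗[A] C) C Z q₁₂ (q₂₃ ≫ pr₂ A C) hw
      have p₁₂ : h ≫ spOMap _ (f₁₂ A C) = q₁₂ := h₁
      have p₂₃ : h ≫ spOMap _ (f₂₃ A C) = q₂₃ := by
        apply pair_unique A C
        · rw [← e₂, ← p₁₂, Category.assoc, Category.assoc, spOMap_comp, spOMap_comp]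
          exact congrArg (fun φ => h ≫ spOMap C φ) (AlgHom.ext fun x => rfl)
        · rw [← h₂, Category.assoc, spOMap_comp]
          exact congrArg (fun φ => h ≫ spOMap C φ) (AlgHom.ext fun x => rfl)
      have p₁₃ : h ≫ spOMap _ (f₁₃ A C) = q₁₃ := by
        apply pair_unique A C
        · rw [← e₁, ← p₁₂, Category.assoc, Category.assoc, spOMap_comp, spOMap_comp]
          exact congrArg (fun φ => h ≫ spOMap C φ) (AlgHom.ext fun x => rfl)
        · rw [e₃, ← h₂, Category.assoc, spOMap_comp]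
          exact congrArg (fun φ => h ≫ spOMap C φ) (AlgHom.ext fun x => rfl)
      simp only [c]
      rw [← app_map, ← app_map, ← app_map, ← map_add, ← p₁₂, ← p₂₃, ← p₁₃]
      rw [← map_map_apply, ← map_map_apply, ← map_map_apply, ← map_add, hcoc]
  obtain ⟨q, hq⟩ := exists_descend Qs (Over.mkIdTerminal.from W) (singleton_cover (A := A) C)
    (prj.hom.app (op W) τ) fun Z a b' _ => by
      obtain ⟨h, rfl, rfl⟩ := pair_lift A C Z a b'
      rw [← map_map_apply, ← map_map_apply]
      congr 1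
      rw [← app_map, ← app_map, eq_comm, ← sub_eq_zero, ← map_sub, hτ]
      exact app_prj_inc G hS d
  refine ⟨q, fun v => ?_⟩
  let x := I.obj.map (spOMap C (χ v)).op τ - t v
  obtain ⟨s, hs⟩ := exists_descend I (spStr (A := A) (O v) (L v)) (rel_cover (A := A) (O v) (L v)) x fun Z a b' hab => by
    obtain ⟨h, rfl, rfl⟩ := exists_pairPt (O v) (L v) (L v) Z a b' hab
    rw [← map_map_apply, ← map_map_apply]
    congr 1
    have el : pr₁ (O v) (L v) ≫ spOMap C (χ v) = spOMap _ (pairHom (A := A) (O := O) L v) ≫ pr₁ A C := by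
      rw [spOMap_comp, spOMap_comp]
      exact congrArg _ (AlgHom.ext fun z => (pairHom_tmul (O := O) L v z 1).symm)
    have er : pr₂ (O v) (L v) ≫ spOMap C (χ v) = spOMap _ (pairHom (A := A) (O := O) L v) ≫ pr₂ A C := by
      rw [spOMap_comp, spOMap_comp]
      exact congrArg _ (AlgHom.ext fun z => (pairHom_tmul (O := O) L v 1 z).symm)
    show I.obj.map (pr₁ (O v) (L v)).op x = I.obj.map (pr₂ (O v) (L v)).op x
    simp only [x]
    rw [map_sub, map_sub, map_map_apply, map_map_apply, el, er, ← map_map_apply, ← map_map_apply]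
    have h0 : I.obj.map (spOMap (C ⊗[A] C) (pairHom (A := A) (O := O) L v)).op (I.obj.map (pr₂ A C).op τ) -
        I.obj.map (spOMap (C ⊗[A] C) (pairHom (A := A) (O := O) L v)).op (I.obj.map (pr₁ A C).op τ) =
        I.obj.map (pr₂ (O v) (L v)).op (t v) - I.obj.map (pr₁ (O v) (L v)).op (t v) := by
      rw [← map_sub, hτ, ← hdv, ← hd]
      exact (app_map inc _ d).symm
    exact ((sub_eq_sub_iff_sub_eq_sub.2 h0).symm)
  refine ⟨s, ext_of_cover Qs (spStr (A := A) (O v) (L v)) (rel_cover (A := A) (O v) (L v)) ?_⟩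
  rw [← app_map, hs]
  simp only [x, map_sub]
  rw [map_resTop, ← ht v, app_map, ← hq, map_resTop]

end Groth.Agent.Tors32
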