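import Groth.Agent.Tors32.Lift
import Groth.Agent.Tors32.GlueQuot
import Groth.Agent.Big45.Shriek

/-!
The first cohomology of a finite flat group over a product of henselian local rings is the product of
the first cohomology groups over the factors.
-/

set_option autoImplicit false
set_option backward.isDefEq.respectTransparency false
universe u

open CategoryTheory CategoryTheory.Limits AlgebraicGeometry Opposite TensorProduct
open Groth.Agent.DualTor32 (spO topO spOMap downIso)

noncomputable section

namespace Groth.Agent.Tors32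

section Change

variable {A : Type u} [CommRing A] (O : Type u) [CommRing O] [Algebra A O]

/-- The morphism of spectra of an algebra. -/
abbrev spHom : Spec (CommRingCat.of O) ⟶ Spec (CommRingCat.of A) :=
  Spec.map (CommRingCat.ofHom (algebraMap A O))

/-- The final object of an algebra seen over the base. -/
def topSpIso : spO (A := A) O ≅ (Over.map (spHom (A := A) O)).obj (topO O) :=
  Over.isoMk (Iso.refl _) (by
    show 𝟙 _ ≫ 𝟙 _ ≫ _ = _
    rw [Category.id_comp, Category.id_comp]
    rfl)

/-- An algebra over an algebra seen over the base. -/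
def downO (L : Type u) [CommRing L] [Algebra O L] [Algebra A L] [IsScalarTower A O L] :
    spO (A := A) L ≅ (Over.map (spHom (A := A) O)).obj (spO (A := O) L) :=
  downIso (A₀ := A) (A := O) L

theorem downO_from (L : Type u) [CommRing L] [Algebra O L] [Algebra A L] [IsScalarTower A O L] :
    (downO (A := A) O L).hom ≫ (Over.map (spHom (A := A) O)).map (Over.mkIdTerminal.from (spO (A := O) L)) =
      spStr (A := A) O L ≫ (topSpIso (A := A) O).hom := by
  apply Over.OverMorphism.ext
  simp [downO, downIso, topSpIso, spStr, spOMap]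

theorem map_topSp_cancel (F : BigSite.Ab Scheme.fppfPrecoverage (Spec (CommRingCat.of A)))
    (x : F.obj.obj (op ((Over.map (spHom (A := A) O)).obj (topO O)))) :
    F.obj.map (topSpIso (A := A) O).inv.op (F.obj.map (topSpIso (A := A) O).hom.op x) = x := by
  rw [map_map_apply, Iso.inv_hom_id, op_id, F.obj.map_id]
  rfl

end Change

variable {A₀ A : Type u} [CommRing A₀] [CommRing A] [Algebra A₀ A] {V : Type u} {O : V → Type u}
  [∀ v, CommRing (O v)] [∀ v, HenselianLocalRing (O v)] [∀ v, Algebra A (O v)] [∀ v, Algebra A₀ (O v)]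
  [∀ v, IsScalarTower A₀ A (O v)]
  (G : Over (Spec (CommRingCat.of A₀))) [GrpObj G] [IsCommMonObj G]

/-- Restricting in two steps. -/
def restIso (v : V) :
    (BigSite.pullBig Scheme.fppfPrecoverage (spHom (A := A) (O v)) AddCommGrpCat.{u + 1}).obj (FA (A := A) G) ≅
      (BigSite.pullBig Scheme.fppfPrecoverage (spHom (A := A₀) (O v)) AddCommGrpCat.{u + 1}).obj
        (CGrpSh.pts Scheme.fppfPrecoverage G) :=
  (Scheme.fppfPrecoverage.toGrothendieck.overMapPullbackComp AddCommGrpCat.{u + 1} (spHom (A := A) (O v))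
      (Spec.map (CommRingCat.ofHom (algebraMap A₀ A)))).app _ ≪≫
    (Scheme.fppfPrecoverage.toGrothendieck.overMapPullbackCongr AddCommGrpCat.{u + 1} (by
      rw [spHom, spHom, ← Spec.map_comp, ← CommRingCat.ofHom_comp, IsScalarTower.algebraMap_eq A₀ A (O v)])).app _

theorem pull_injective [IsAffine G.left] (hπ : Function.Bijective (RingHom.pi fun v => algebraMap A (O v)))
    (x : BigSite.H Scheme.fppfPrecoverage (Spec (CommRingCat.of A)) (FA (A := A) G) 1)
    (hx : ∀ v, HRes.pull Scheme.fppfPrecoverage (spHom (A := A) (O v)) (FA (A := A) G) 1 x = 0) : x = 0 := by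
  obtain ⟨I, Qs, inc, prj, w, hI, hS⟩ := exists_injective_ses (FA (A := A) G)
  obtain ⟨q, rfl⟩ := delta_surjective (S := ShortComplex.mk inc prj w) hS x
  refine (delta_eq_zero_iff hS q).2 ?_
  have h : ∀ v, ∃ t : I.obj.obj (op (spO (A := A) (O v))),
      prj.hom.app (op (spO (A := A) (O v))) t = resTop Qs _ q := fun v => by
    obtain ⟨t, ht⟩ := (delta_eq_zero_iff _ _).1 ((pull_delta (spHom (A := A) (O v)) hS q).symm.trans (hx v))
    refine ⟨I.obj.map (topSpIso (A := A) (O v)).hom.op t, ?_⟩
    rw [app_map, ← map_resTop Qs (topSpIso (A := A) (O v)).hom q]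
    exact congrArg (fun z => Qs.obj.map (topSpIso (A := A) (O v)).hom.op z) ht
  choose t ht using h
  exact exists_lift_of_local G hS hπ q t ht

theorem exists_lift_spO {N : ℕ} [IsFinite G.hom] [Flat G.hom] (H₀ : Type u) [CommRing H₀] [Algebra A₀ H₀]
    [Module.Finite A₀ H₀] (eG : spO (A := A₀) H₀ ≅ G) (g : Fin N → H₀)
    (hg : Submodule.span A₀ (Set.range g) = ⊤) {I Qs : BigSite.Ab Scheme.fppfPrecoverage (Spec (CommRingCat.of A))}
    {inc : FA (A := A) G ⟶ I} {prj : I ⟶ Qs} {w : inc ≫ prj = 0} (hS : (ShortComplex.mk inc prj w).ShortExact)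
    (v : V) (q : Qs.obj.obj (op (spO (A := A) (O v)))) :
    ∃ (L : Type u) (_ : CommRing L) (_ : Algebra (O v) L) (_ : Algebra A L) (_ : IsScalarTower A (O v) L),
      Module.Free (O v) L ∧ Module.Finite (O v) L ∧ Nontrivial L ∧ Module.finrank (O v) L ≤ N ∧
      ∃ t, prj.hom.app (op (spO (A := A) L)) t = Qs.obj.map (spStr (O v) L).op q := by
  let P := BigSite.pullBig Scheme.fppfPrecoverage (spHom (A := A) (O v)) AddCommGrpCat.{u + 1}
  have w' : ((restIso G v).inv ≫ P.map inc) ≫ P.map prj = 0 := by
    rw [Category.assoc, ← P.map_comp, w, P.map_zero, comp_zero]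
  have hP : ((ShortComplex.mk inc prj w).map P).ShortExact := shortExact_pull (spHom (A := A) (O v)) hS
  have hS' : (ShortComplex.mk ((restIso G v).inv ≫ P.map inc) (P.map prj) w').ShortExact :=
    ShortComplex.shortExact_of_iso
      (ShortComplex.isoMk (S₁ := (ShortComplex.mk inc prj w).map P) (restIso G v) (Iso.refl _) (Iso.refl _) (by
        show (restIso G v).hom ≫ (restIso G v).inv ≫ P.map inc = P.map inc ≫ 𝟙 _
        rw [Iso.hom_inv_id_assoc, Category.comp_id]) (by
        show 𝟙 _ ≫ P.map prj = P.map prj ≫ 𝟙 _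
        rw [Category.id_comp, Category.comp_id]))
      hP
  obtain ⟨L, _, _, hf, hfin, hnt, hrk, t, ht⟩ := exists_bounded_lift G H₀ eG g hg _ _ _ _ w' hS'
    (Qs.obj.map (topSpIso (A := A) (O v)).inv.op q)
  let algAL : Algebra A L := ((algebraMap (O v) L).comp (algebraMap A (O v))).toAlgebra
  have : IsScalarTower A (O v) L := .of_algebraMap_eq fun _ => rfl
  refine ⟨L, inferInstance, inferInstance, algAL, inferInstance, hf, hfin, hnt, hrk,
    I.obj.map (downO (A := A) (O v) L).hom.op t, ?_⟩
  rw [app_map]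
  refine (congrArg (fun z => Qs.obj.map (downO (A := A) (O v) L).hom.op z) ht).trans ?_
  show Qs.obj.map (downO (A := A) (O v) L).hom.op
    (Qs.obj.map ((Over.map (spHom (A := A) (O v))).map (Over.mkIdTerminal.from (spO (A := O v) L))).op
      (Qs.obj.map (topSpIso (A := A) (O v)).inv.op q)) = _
  rw [map_map_apply, map_map_apply, downO_from, Category.assoc, Iso.hom_inv_id, Category.comp_id]

theorem pull_surjective [IsFinite G.hom] [Flat G.hom]
    (hπ : Function.Bijective (RingHom.pi fun v => algebraMap A (O v)))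
    (y : ∀ v, BigSite.H Scheme.fppfPrecoverage (Spec (CommRingCat.of (O v)))
      ((BigSite.pullBig Scheme.fppfPrecoverage (spHom (A := A) (O v)) AddCommGrpCat.{u + 1}).obj (FA (A := A) G)) 1) :
    ∃ x, ∀ v, HRes.pull Scheme.fppfPrecoverage (spHom (A := A) (O v)) (FA (A := A) G) 1 x = y v := by
  rcases isEmpty_or_nonempty V with hV | hV
  · exact ⟨0, fun v => isEmptyElim v⟩
  have : IsAffine G.left := isAffine_of_isAffineHom G.hom
  obtain ⟨H₀, _, _, ⟨eG⟩⟩ := exists_spO_iso G
  have : Module.Finite A₀ H₀ := finite_of_isFinite (by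
    rw [← Over.w eG.hom]; exact MorphismProperty.comp_mem @IsFinite _ _ inferInstance ‹_›)
  obtain ⟨N, g, hg⟩ := Module.Finite.exists_fin (R := A₀) (M := H₀)
  obtain ⟨I, Qs, inc, prj, w, hI, hS⟩ := exists_injective_ses (FA (A := A) G)
  have hq : ∀ v, ∃ q, delta (shortExact_pull (spHom (A := A) (O v)) hS) q = y v := fun v => by
    have : Injective ((ShortComplex.mk inc prj w).map
        (BigSite.pullBig Scheme.fppfPrecoverage (spHom (A := A) (O v)) AddCommGrpCat.{u + 1})).X₂ :=
      Big45.injective_pullBig _ _ I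
    have h := delta_surjective (shortExact_pull (spHom (A := A) (O v)) hS)
    exact h (y v)
  choose qv hqv using hq
  let qA : ∀ v, Qs.obj.obj (op (spO (A := A) (O v))) := fun v => Qs.obj.map (topSpIso (A := A) (O v)).hom.op (qv v)
  choose L instL algOL algAL towL hfree hfin hnt hrk t ht using fun v => exists_lift_spO G H₀ eG g hg hS v (qA v)
  -- pad to constant rank
  let k : V → ℕ := fun v => N.factorial / Module.finrank (O v) (L v)
  have hmul : ∀ v, k v * Module.finrank (O v) (L v) = N.factorial := fun v =>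
    Nat.div_mul_cancel (Nat.dvd_factorial (by
      have := hnt v
      have := hfree v
      have := hfin v
      rw [Module.finrank_eq_card_chooseBasisIndex]
      exact Fintype.card_pos_iff.2 (Module.Free.chooseBasis (O v) (L v)).index_nonempty) (hrk v))
  have hk : ∀ v, Nonempty (Fin (k v)) := fun v => ⟨⟨0, Nat.pos_of_mul_pos_right ((hmul v).symm ▸ N.factorial_pos)⟩⟩
  let L' : V → Type u := fun v => Fin (k v) → L v
  let b : ∀ v, Module.Basis (Fin N.factorial) (O v) (L' v) := fun v =>
    Module.finBasisOfFinrankEq (O v) (L' v) (by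
      rw [Module.finrank_pi_fintype (O v), Finset.sum_const, Finset.card_univ, Fintype.card_fin, smul_eq_mul, hmul v])
  let dg : ∀ v, L v →ₐ[A] L' v := fun v => Pi.constAlgHom A (Fin (k v)) (L v)
  obtain ⟨q, hq⟩ := exists_glue G hS hπ L' b qA (fun v => I.obj.map (spOMap (L v) (dg v)).op (t v)) fun v => by
    rw [app_map, ht v, map_map_apply, spStr, spStr, spOMap_comp]
    exact congrArg (fun φ => Qs.obj.map (spOMap (O v) φ).op (qA v)) (AlgHom.ext fun a => rfl)
  refine ⟨delta hS q, fun v => ?_⟩
  obtain ⟨s, hs⟩ := hq v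
  refine (pull_delta (spHom (A := A) (O v)) hS q).trans ?_
  rw [← hqv v]
  refine sub_eq_zero.1 ((delta_sub (shortExact_pull (spHom (A := A) (O v)) hS) _ _).symm.trans
    ((delta_eq_zero_iff _ _).2 ⟨I.obj.map (topSpIso (A := A) (O v)).inv.op s, ?_⟩))
  refine (app_map prj (topSpIso (A := A) (O v)).inv s).trans ?_
  rw [hs, map_sub, map_resTop, map_topSp_cancel]

/-- The first cohomology of a finite flat group over a product of henselian local rings. -/
theorem pull_bijective [IsFinite G.hom] [Flat G.hom]
    (hπ : Function.Bijective (RingHom.pi fun v => algebraMap A (O v))) :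
    Function.Bijective fun (x : BigSite.H Scheme.fppfPrecoverage (Spec (CommRingCat.of A)) (FA (A := A) G) 1) (v : V) =>
      HRes.pull Scheme.fppfPrecoverage (spHom (A := A) (O v)) (FA (A := A) G) 1 x := by
  have : IsAffine G.left := isAffine_of_isAffineHom G.hom
  refine ⟨fun x x' h => sub_eq_zero.1 (pull_injective G hπ _ fun v => ?_), fun y => ?_⟩
  · rw [map_sub, sub_eq_zero]
    exact congrFun h v
  · obtain ⟨x, hx⟩ := pull_surjective G hπ y
    exact ⟨x, funext hx⟩

end Groth.Agent.Tors32
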