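import Groth.Agent.EtTr32.Site
import Groth.Prelude.Def_BigSite

/-!
Descent along a single covering and the vanishing of Čech one-classes of injective sheaves on big
sites.
-/

set_option autoImplicit false
set_option backward.isDefEq.respectTransparency false
universe u

open CategoryTheory CategoryTheory.Limits AlgebraicGeometry Opposite

noncomputable section

namespace Groth.Agent.Tors32

variable {K : Precoverage Scheme.{u}} {T : Scheme.{u}}

theorem map_map_apply (F : BigSite.Ab K T) {U V W : Over T} (k : W ⟶ V) (r : V ⟶ U) (z : F.obj.obj (op U)) :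
    F.obj.map k.op (F.obj.map r.op z) = F.obj.map (k ≫ r).op z := by
  rw [op_comp, Functor.map_comp]
  rfl

/-- A compatible section on a covering object descends. -/
theorem exists_descend (F : BigSite.Ab K T) {U W : Over T} (p : W ⟶ U)
    (hp : Sieve.ofArrows (fun _ : PUnit.{1} => W) (fun _ => p) ∈ QuotSh.J K T U) (x : F.obj.obj (op W))
    (hx : ∀ (Z : Over T) (a b : Z ⟶ W), a ≫ p = b ≫ p → F.obj.map a.op x = F.obj.map b.op x) :
    ∃ y, F.obj.map p.op y = x := by
  have hsh := ((isSheaf_iff_isSheaf_of_type _ _).1 (EtTr32.isSheaf_types F)) _ hp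
  rw [Sieve.ofArrows, ← Presieve.isSheafFor_iff_generate] at hsh
  obtain ⟨y, hy, -⟩ := (Presieve.isSheafFor_arrows_iff _ _).1 hsh (fun _ => x) fun _ _ Z a b h => hx Z a b h
  exact ⟨y, hy PUnit.unit⟩

theorem ext_of_cover (F : BigSite.Ab K T) {U W : Over T} (p : W ⟶ U)
    (hp : Sieve.ofArrows (fun _ : PUnit.{1} => W) (fun _ => p) ∈ QuotSh.J K T U) {x y : F.obj.obj (op U)}
    (h : F.obj.map p.op x = F.obj.map p.op y) : x = y := by
  refine EtTr32.sect_ext F hp fun V k hk => ?_
  obtain ⟨_, a, rfl⟩ := (Sieve.mem_ofArrows_iff _ _ _).1 hk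
  rw [← map_map_apply, h, map_map_apply]

variable {W : Over T}

/-- The object of points of `W` over an object. -/
abbrev pullObj (W V : Over T) : Over T := (Over.map W.hom).obj ((Over.pullback W.hom).obj V)

theorem mono_unit (I : BigSite.Ab K T)
    (hW : Sieve.ofArrows (fun _ : PUnit.{1} => W) (fun _ => Over.mkIdTerminal.from W) ∈
      QuotSh.J K T (Over.mk (𝟙 T))) :
    Mono ((BigSite.bigAdj K W.hom (A := AddCommGrpCat.{u + 1})).unit.app I) := by
  let η := (BigSite.bigAdj K W.hom (A := AddCommGrpCat.{u + 1})).unit.app I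
  have hinj : ∀ V : Over T, Function.Injective (I.obj.map ((Over.mapPullbackAdj W.hom).counit.app V).op) := by
    intro V x y h
    refine EtTr32.sect_ext I ((QuotSh.J K T).pullback_stable (Over.mkIdTerminal.from V) hW) fun V' k hk => ?_
    obtain ⟨_, a, ha⟩ := (Sieve.mem_ofArrows_iff _ _ _).1 hk
    let n : V' ⟶ pullObj W V := Over.homMk (pullback.lift k.left a.left (by rw [Over.w, Over.w])) (by
      show _ ≫ pullback.snd V.hom W.hom ≫ W.hom = _
      rw [pullback.lift_snd_assoc, Over.w])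
    have hn : n ≫ (Over.mapPullbackAdj W.hom).counit.app V = k := by
      apply Over.OverMorphism.ext
      simp [n]
    rw [← hn, ← map_map_apply, ← map_map_apply]
    exact congrArg _ h
  have : Mono η.hom := by
    rw [NatTrans.mono_iff_mono_app]
    intro V
    rw [AddCommGrpCat.mono_iff_injective]
    exact hinj V.unop
  exact (sheafToPresheaf _ _).mono_of_mono_map (inferInstanceAs (Mono η.hom))

/-- Čech one-cocycles of injective sheaves are coboundaries. -/
theorem exists_coboundary_of_injective (I : BigSite.Ab K T) [Injective I]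
    (hW : Sieve.ofArrows (fun _ : PUnit.{1} => W) (fun _ => Over.mkIdTerminal.from W) ∈
      QuotSh.J K T (Over.mk (𝟙 T)))
    {P : Over T} (p₁ p₂ : P ⟶ W) (lift : ∀ (Z : Over T) (a b : Z ⟶ W), ∃ h : Z ⟶ P, h ≫ p₁ = a ∧ h ≫ p₂ = b)
    (c : I.obj.obj (op P))
    (hc : ∀ (Z : Over T) (q₁₂ q₂₃ q₁₃ : Z ⟶ P), q₁₂ ≫ p₁ = q₁₃ ≫ p₁ → q₁₂ ≫ p₂ = q₂₃ ≫ p₁ →
      q₁₃ ≫ p₂ = q₂₃ ≫ p₂ → I.obj.map q₁₃.op c = I.obj.map q₁₂.op c + I.obj.map q₂₃.op c) :
    ∃ t, I.obj.map p₂.op t - I.obj.map p₁.op t = c := by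
  let η := (BigSite.bigAdj K W.hom (A := AddCommGrpCat.{u + 1})).unit.app I
  have := mono_unit I hW
  let r := Injective.factorThru (𝟙 I) η
  have hr : η ≫ r = 𝟙 I := Injective.comp_factorThru _ _
  let ε := (Over.mapPullbackAdj W.hom).counit
  -- the last point
  let last : ∀ V : Over T, pullObj W V ⟶ W := fun V => Over.homMk (pullback.snd V.hom W.hom) rfl
  obtain ⟨h, h₁, h₂⟩ := lift (pullObj W W) (last W) (ε.app W)
  let t' : ((BigSite.pushBig K W.hom AddCommGrpCat.{u + 1}).obj
      ((BigSite.pullBig K W.hom AddCommGrpCat.{u + 1}).obj I)).obj.obj (op W) := I.obj.map h.op c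
  let k : ∀ p : P ⟶ W, pullObj W P ⟶ pullObj W W := fun p =>
    (Over.map W.hom).map ((Over.pullback W.hom).map p)
  have hkl : ∀ p, k p ≫ last W = last P := fun p => Over.OverMorphism.ext (pullback.lift_snd _ _ _)
  have hkε : ∀ p, k p ≫ ε.app W = ε.app P ≫ p := fun p => ε.naturality p
  have key : I.obj.map (k p₂).op (I.obj.map h.op c) - I.obj.map (k p₁).op (I.obj.map h.op c) =
      I.obj.map (ε.app P).op c := by
    rw [map_map_apply, map_map_apply, sub_eq_iff_eq_add', hc _ (k p₁ ≫ h) (ε.app P) (k p₂ ≫ h)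
      (by rw [Category.assoc, Category.assoc, h₁, hkl, hkl])
      (by rw [Category.assoc, h₂, hkε])
      (by rw [Category.assoc, h₂, hkε])]
    rfl
  refine ⟨r.hom.app (op W) t', ?_⟩
  rw [← NatTrans.naturality_apply, ← NatTrans.naturality_apply, ← map_sub]
  refine (congrArg (r.hom.app (op P)) (key : _ = η.hom.app (op P) c)).trans ?_
  exact ConcreteCategory.congr_hom (NatTrans.congr_app (congrArg (fun f => f.hom) hr) (op P)) c

end Groth.Agent.Tors32
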