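import Groth.Agent.HU32.Basic
import Groth.Agent.Big45.Shriek
import Mathlib.Algebra.Homology.DerivedCategory.Ext.ExactSequences
import Mathlib.Algebra.Homology.DerivedCategory.Ext.EnoughInjectives
import Mathlib.Algebra.Homology.DerivedCategory.Ext.Map

/-!
First cohomology classes on big sites as images of sections under the connecting map, and their
restriction.
-/

set_option autoImplicit false
set_option backward.isDefEq.respectTransparency false
universe u

open CategoryTheory CategoryTheory.Limits CategoryTheory.Abelian AlgebraicGeometry Opposite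

noncomputable section

namespace Groth.Agent.Tors32

variable {K : Precoverage Scheme.{u}} {T : Scheme.{u}}

/-- The class of a section of the quotient. -/
def delta {S : ShortComplex (BigSite.Ab K T)} (hS : S.ShortExact) (q : S.X₃.obj.obj (op (HU32.top T))) :
    BigSite.H K T S.X₁ 1 :=
  ((HU32.h0 K T S.X₃).symm q).comp hS.extClass (zero_add 1)

theorem delta_sub {S : ShortComplex (BigSite.Ab K T)} (hS : S.ShortExact) (q q' : S.X₃.obj.obj (op (HU32.top T))) :
    delta hS (q - q') = delta hS q - delta hS q' := by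
  rw [eq_sub_iff_add_eq, delta, delta, delta, ← Ext.add_comp, ← map_add, sub_add_cancel]

theorem delta_surjective {S : ShortComplex (BigSite.Ab K T)} (hS : S.ShortExact) [Injective S.X₂] :
    Function.Surjective (delta hS) := fun x => by
  obtain ⟨y, hy⟩ := Ext.covariant_sequence_exact₁ _ hS x (Ext.eq_zero_of_injective _) rfl
  exact ⟨HU32.h0 K T S.X₃ y, by rw [delta, AddEquiv.symm_apply_apply]; exact hy⟩

theorem delta_eq_zero_iff {S : ShortComplex (BigSite.Ab K T)} (hS : S.ShortExact)
    (q : S.X₃.obj.obj (op (HU32.top T))) :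
    delta hS q = 0 ↔ ∃ t, S.g.hom.app (op (HU32.top T)) t = q := by
  constructor
  · intro h
    obtain ⟨y, hy⟩ := Ext.covariant_sequence_exact₃ _ hS _ rfl h
    refine ⟨HU32.h0 K T S.X₂ y, ?_⟩
    rw [← HU32.h0_map, Sheaf.H.map_apply, hy, AddEquiv.apply_symm_apply]
  · rintro ⟨t, rfl⟩
    have : (HU32.h0 K T S.X₃).symm (S.g.hom.app (op (HU32.top T)) t) =
        ((HU32.h0 K T S.X₂).symm t).comp (Ext.mk₀ S.g) (zero_add 0) := by
      refine (HU32.h0 K T S.X₃).injective ?_
      rw [AddEquiv.apply_symm_apply, ← Sheaf.H.map_apply, HU32.h0_map, AddEquiv.apply_symm_apply]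
    rw [delta, this, Ext.comp_assoc_of_second_deg_zero, ShortComplex.ShortExact.comp_extClass, Ext.comp_zero]

variable {T' : Scheme.{u}} (f : T' ⟶ T)

theorem shortExact_pull {S : ShortComplex (BigSite.Ab K T)} (hS : S.ShortExact) :
    (S.map (BigSite.pullBig K f AddCommGrpCat.{u + 1})).ShortExact :=
  hS.map_of_exact _

/-- Restriction of classes. -/
theorem pull_delta {S : ShortComplex (BigSite.Ab K T)} (hS : S.ShortExact) (q : S.X₃.obj.obj (op (HU32.top T))) :
    HRes.pull K f S.X₁ 1 (delta hS q) =
      delta (shortExact_pull f hS)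
        (S.X₃.obj.map (Over.mkIdTerminal.from ((Over.map f).obj (HU32.top T'))).op q) := by
  have h : (HU32.h0 K T' _).symm
      (S.X₃.obj.map (Over.mkIdTerminal.from ((Over.map f).obj (HU32.top T'))).op q) =
      HRes.pull K f S.X₃ 0 ((HU32.h0 K T S.X₃).symm q) := by
    refine (HU32.h0 K T' _).injective ?_
    rw [HU32.h0_pull, AddEquiv.apply_symm_apply, AddEquiv.apply_symm_apply]
  rw [delta, delta]
  erw [h]
  rw [HRes.pull_apply, HRes.pull_apply, Ext.mapExactFunctor_comp, Ext.mapExactFunctor_extClass]
  exact (Ext.comp_assoc _ _ _ (zero_add 0) (zero_add 1) (by omega)).symm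

/-- Short exact sequences are exact on sections. -/
theorem exists_app_f_eq {S : ShortComplex (BigSite.Ab K T)} (hS : S.ShortExact) {U : Over T}
    {a : S.X₂.obj.obj (op U)} (h : S.g.hom.app (op U) a = 0) : ∃ b, S.f.hom.app (op U) b = a := by
  let Φ := sheafToPresheaf (QuotSh.J K T) AddCommGrpCat.{u + 1} ⋙ (evaluation _ _).obj (op U)
  exact (ShortComplex.ab_exact_iff (S.map Φ)).1
    (hS.exact.map_of_mono_of_preservesKernel Φ hS.mono_f inferInstance) a h

theorem app_f_injective {S : ShortComplex (BigSite.Ab K T)} (hS : S.ShortExact) (U : Over T) :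
    Function.Injective (S.f.hom.app (op U)) := by
  have : Mono S.f := hS.mono_f
  have : Mono S.f.hom := inferInstanceAs (Mono ((sheafToPresheaf _ _).map S.f))
  exact (AddCommGrpCat.mono_iff_injective _).1 inferInstance

theorem app_g_f {S : ShortComplex (BigSite.Ab K T)} {U : Over T} (b : S.X₁.obj.obj (op U)) :
    S.g.hom.app (op U) (S.f.hom.app (op U) b) = 0 := by
  show (S.f ≫ S.g).hom.app _ b = 0
  rw [S.zero]
  rfl

/-- An embedding into an injective sheaf. -/
theorem exists_injective_ses (F : BigSite.Ab K T) :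
    ∃ (I Q : BigSite.Ab K T) (ι : F ⟶ I) (π : I ⟶ Q) (w : ι ≫ π = 0),
      Injective I ∧ (ShortComplex.mk ι π w).ShortExact :=
  ⟨_, _, Injective.ι F, cokernel.π _, cokernel.condition _, inferInstance,
    { exact := ShortComplex.exact_cokernel _ }⟩

end Groth.Agent.Tors32
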