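import Groth.Agent.Tors32.Rel

/-!
Global lifts from lifts on the factors of a product of henselian local rings.
-/

set_option autoImplicit false
set_option backward.isDefEq.respectTransparency false
universe u

open CategoryTheory CategoryTheory.Limits AlgebraicGeometry Opposite TensorProduct
open Groth.Agent.DualTor32 (spO topO spOMap pr₁ pr₂ pair_lift AJ subJ)

noncomputable section

namespace Groth.Agent.Tors32

variable {A : Type u} [CommRing A]

/-- Restriction of a section to an object from the final one. -/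
abbrev resTop (F : BigSite.Ab Scheme.fppfPrecoverage (Spec (CommRingCat.of A))) (Z : Over (Spec (CommRingCat.of A)))
    (q : F.obj.obj (op (topO A))) : F.obj.obj (op Z) :=
  F.obj.map (Over.mkIdTerminal.from Z).op q

theorem map_resTop (F : BigSite.Ab Scheme.fppfPrecoverage (Spec (CommRingCat.of A))) {Z Z' : Over (Spec (CommRingCat.of A))}
    (a : Z' ⟶ Z) (q : F.obj.obj (op (topO A))) : F.obj.map a.op (resTop F Z q) = resTop F Z' q := by
  rw [resTop, map_map_apply, Over.mkIdTerminal.hom_ext (a ≫ _) (Over.mkIdTerminal.from Z')]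

theorem app_map {F F' : BigSite.Ab Scheme.fppfPrecoverage (Spec (CommRingCat.of A))} (φ : F ⟶ F')
    {Z Z' : Over (Spec (CommRingCat.of A))} (a : Z' ⟶ Z) (x : F.obj.obj (op Z)) :
    φ.hom.app (op Z') (F.obj.map a.op x) = F'.obj.map a.op (φ.hom.app (op Z) x) :=
  NatTrans.naturality_apply φ.hom a.op x

variable {A₀ : Type u} [CommRing A₀] [Algebra A₀ A] (G : Over (Spec (CommRingCat.of A₀))) [GrpObj G]
  [IsCommMonObj G] [IsAffine G.left]
variable {I Qs : BigSite.Ab Scheme.fppfPrecoverage (Spec (CommRingCat.of A))} {inc : FA (A := A) G ⟶ I}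
  {prj : I ⟶ Qs} {w : inc ≫ prj = 0} (hS : (ShortComplex.mk inc prj w).ShortExact)

omit [IsAffine G.left] in
include hS in
theorem app_prj_inc {Z : Over (Spec (CommRingCat.of A))} (m : (FA (A := A) G).obj.obj (op Z)) :
    prj.hom.app (op Z) (inc.hom.app (op Z) m) = 0 :=
  app_g_f (S := ShortComplex.mk inc prj w) m

include hS in
/-- A lift on a member can be corrected to agree with the given lifts on the factors. -/
theorem member_fix {B : Type u} [CommRing B] [Algebra A B] (C : Type u) [CommRing C] [Algebra B C] [Algebra A C]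
    [IsScalarTower A B C] [Module.Free B C] [Module.Finite B C] [Mono (Spec.map (CommRingCat.ofHom (algebraMap A B)))]
    {V : Type u} {O : V → Type u} [∀ v, CommRing (O v)] [∀ v, Algebra B (O v)] [∀ v, Algebra A (O v)]
    [∀ v, IsScalarTower A B (O v)] (hB : Function.Bijective (RingHom.pi fun v => algebraMap B (O v)))
    (q : Qs.obj.obj (op (topO A))) (t : ∀ v, I.obj.obj (op (spO (A := A) (O v))))
    (ht : ∀ v, prj.hom.app (op (spO (A := A) (O v))) (t v) = resTop Qs _ q) (τ : I.obj.obj (op (spO (A := A) C)))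
    (hτ : prj.hom.app (op (spO (A := A) C)) τ = resTop Qs _ q) :
    ∃ t' : I.obj.obj (op (spO (A := A) C)), prj.hom.app (op (spO (A := A) C)) t' = resTop Qs _ q ∧
      ∀ (Z : Over (Spec (CommRingCat.of A))) (a b : Z ⟶ spO (A := A) C), I.obj.map a.op t' = I.obj.map b.op t' := by
  let χ : ∀ v, C →ₐ[A] O v ⊗[B] C := fun v =>
    (Algebra.TensorProduct.includeRight : C →ₐ[B] O v ⊗[B] C).restrictScalars A
  let ι : ∀ v, O v →ₐ[A] O v ⊗[B] C := fun v =>
    (Algebra.TensorProduct.includeLeft : O v →ₐ[B] O v ⊗[B] C).restrictScalars A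
  have hm : ∀ v, ∃ m, inc.hom.app (op (spO (A := A) (O v ⊗[B] C))) m =
      I.obj.map (spOMap C (χ v)).op τ - I.obj.map (spOMap (O v) (ι v)).op (t v) := fun v =>
    exists_app_f_eq hS (by
      show prj.hom.app _ _ = 0
      rw [map_sub, app_map, app_map, hτ, ht, map_resTop, map_resTop, sub_self])
  choose m hm using hm
  obtain ⟨y, hy⟩ := sec_exists G χ (bijective_baseChange hB C) m
  let t' := τ - inc.hom.app (op (spO (A := A) C)) y
  have ht' : prj.hom.app (op (spO (A := A) C)) t' = resTop Qs _ q := by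
    rw [map_sub, hτ, app_prj_inc G hS, sub_zero]
  have hfix : ∀ v, I.obj.map (spOMap C (χ v)).op t' = I.obj.map (spOMap (O v) (ι v)).op (t v) := fun v => by
    rw [map_sub, ← app_map, hy, hm, sub_sub_cancel]
  refine ⟨t', ht', fun Z a b => ?_⟩
  obtain ⟨h, rfl, rfl⟩ := pair_lift B C Z a b
  rw [← map_map_apply, ← map_map_apply]
  congr 1
  obtain ⟨d, hd⟩ := exists_app_f_eq hS
    (a := I.obj.map (pr₁ B C).op t' - I.obj.map (pr₂ B C).op t') (by
      show prj.hom.app _ _ = 0
      rw [map_sub, app_map, app_map, ht', map_resTop, map_resTop, sub_self])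
  let κ : ∀ v, C ⊗[B] C →ₐ[A] O v ⊗[B] (C ⊗[B] C) := fun v =>
    (Algebra.TensorProduct.includeRight : C ⊗[B] C →ₐ[B] O v ⊗[B] (C ⊗[B] C)).restrictScalars A
  have hd0 : d = 0 := by
    refine sec_ext G κ (bijective_baseChange hB (C ⊗[B] C)).1 fun v => ?_
    apply app_f_injective hS
    rw [map_zero, map_zero, app_map]
    erw [hd]
    let jl : O v ⊗[B] C →ₐ[A] O v ⊗[B] (C ⊗[B] C) :=
      (Algebra.TensorProduct.map (AlgHom.id B (O v))
        (Algebra.TensorProduct.includeLeft : C →ₐ[B] C ⊗[B] C)).restrictScalars A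
    let jr : O v ⊗[B] C →ₐ[A] O v ⊗[B] (C ⊗[B] C) :=
      (Algebra.TensorProduct.map (AlgHom.id B (O v))
        (Algebra.TensorProduct.includeRight : C →ₐ[B] C ⊗[B] C)).restrictScalars A
    have el : spOMap (C ⊗[B] C) (κ v) ≫ pr₁ B C = spOMap _ jl ≫ spOMap C (χ v) := by
      rw [spOMap_comp, spOMap_comp]
      exact congrArg _ (AlgHom.ext fun x => rfl)
    have er : spOMap (C ⊗[B] C) (κ v) ≫ pr₂ B C = spOMap _ jr ≫ spOMap C (χ v) := by
      rw [spOMap_comp, spOMap_comp]
      exact congrArg _ (AlgHom.ext fun x => rfl)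
    rw [map_sub, map_map_apply, map_map_apply, el, er, ← map_map_apply, ← map_map_apply, hfix, map_map_apply,
      map_map_apply, spOMap_comp, spOMap_comp, sub_eq_zero]
    exact congrArg (fun φ => I.obj.map (spOMap (O v) φ).op (t v)) (AlgHom.ext fun x => rfl)
  rw [hd0, map_zero] at hd
  exact (sub_eq_zero.1 hd.symm)

variable {V : Type u} {O : V → Type u} [∀ v, CommRing (O v)] [∀ v, HenselianLocalRing (O v)] [∀ v, Algebra A (O v)]

omit [∀ v, HenselianLocalRing (O v)] in
/-- Two members over different classes are disjoint. -/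
theorem isEmpty_pair (hπ : Function.Bijective (RingHom.pi fun v => algebraMap A (O v))) {ι : Type u} [DecidableEq ι]
    (c : V → ι) (C : ι → Type u) [∀ j, CommRing (C j)] [∀ j, Algebra A (C j)] [∀ j, Algebra (AJ O c j) (C j)]
    (hfac : ∀ j, algebraMap A (C j) = (algebraMap (AJ O c j) (C j)).comp (subJ (fun v => algebraMap A (O v)) c j))
    {i j : ι} (hij : i ≠ j) {Z : Over (Spec (CommRingCat.of A))} (a : Z ⟶ spO (A := A) (C i)) (b : Z ⟶ spO (A := A) (C j)) :
    IsEmpty Z.left := ⟨fun z => by
  obtain ⟨e, he⟩ := DualTor32.exists_ind hπ c i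
  obtain ⟨a', ha⟩ := Spec.map_surjective (Z.left.fromSpecResidueField z ≫ a.left)
  obtain ⟨b', hb⟩ := Spec.map_surjective (Z.left.fromSpecResidueField z ≫ b.left)
  have h1 : a'.hom.comp (algebraMap A (C i)) = b'.hom.comp (algebraMap A (C j)) := by
    have h : Spec.map a' ≫ (spO (A := A) (C i)).hom = Spec.map b' ≫ (spO (A := A) (C j)).hom := by
      rw [ha, hb, Category.assoc, Category.assoc, Over.w a, Over.w b]
    exact congrArg CommRingCat.Hom.hom (Spec.map_injective ((Spec.map_comp _ _).trans (h.trans (Spec.map_comp _ _).symm)))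
  have h2 := DFunLike.congr_fun h1 e
  rw [RingHom.comp_apply, RingHom.comp_apply, DFunLike.congr_fun (hfac i) e, DFunLike.congr_fun (hfac j) e,
    RingHom.comp_apply, RingHom.comp_apply,
    show subJ (fun v => algebraMap A (O v)) c i e = 1 from funext fun v => (he v.1).trans (if_pos v.2),
    show subJ (fun v => algebraMap A (O v)) c j e = 0 from
      funext fun v => (he v.1).trans (if_neg fun h => hij (h.symm.trans v.2)),
    map_one, map_one, map_zero, map_zero] at h2
  exact one_ne_zero h2⟩

include hS in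
/-- A section which lifts on every factor lifts. -/
theorem exists_lift_of_local (hπ : Function.Bijective (RingHom.pi fun v => algebraMap A (O v)))
    (q : Qs.obj.obj (op (topO A))) (t : ∀ v, I.obj.obj (op (spO (A := A) (O v))))
    (ht : ∀ v, prj.hom.app (op (spO (A := A) (O v))) (t v) = resTop Qs _ q) :
    ∃ t₀, prj.hom.app (op (topO A)) t₀ = q := by
  classical
  have : Epi prj := hS.epi_g
  have : Sheaf.IsLocallySurjective prj := (Sheaf.isLocallySurjective_iff_epi' AddCommGrpCat.{u + 1} prj).2 inferInstance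
  let s₀ : DualTor32.Spl A A A 1 :=
    { σ := fun _ => AlgHom.id A A
      ε := fun _ => 1
      delta := fun i j => by rw [if_pos (Subsingleton.elim i j), map_one]
      expand := fun b => by
        rw [Fin.sum_univ_one, Algebra.TensorProduct.one_def, AlgHom.id_apply, TensorProduct.smul_tmul',
          TensorProduct.smul_tmul, smul_eq_mul, mul_one] }
  obtain ⟨ι, _, c, C, instC, algA, algJ, alg₀, tow, hC⟩ :=
    DualTor32.exists_family _ (DualTor32.eval_surjective hπ) s₀ _ (Presheaf.imageSieve_mem _ prj.hom q)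
  have heq : alg₀ = algA := funext fun j => Algebra.algebra_ext _ _ fun a =>
    @IsScalarTower.algebraMap_apply A A (C j) _ _ _ (Algebra.id A) (algA j) (alg₀ j) (tow j) a
  subst heq
  choose hfree hfinC hnt hfac hspl hmem using hC
  have hlift : ∀ j, ∃ t' : I.obj.obj (op (spO (A := A) (C j))),
      prj.hom.app (op (spO (A := A) (C j))) t' = resTop Qs _ q ∧
      ∀ (Z : Over (Spec (CommRingCat.of A))) (a b : Z ⟶ spO (A := A) (C j)), I.obj.map a.op t' = I.obj.map b.op t' := by
    intro j
    obtain ⟨τ, hτ⟩ := hmem j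
    have := hfree j
    have := hfinC j
    have : IsScalarTower A (AJ O c j) (C j) := .of_algebraMap_eq fun a => DFunLike.congr_fun (hfac j) a
    have : IsOpenImmersion (Spec.map (CommRingCat.ofHom (algebraMap A (AJ O c j)))) :=
      DualTor32.isOpenImmersion_subJ hπ c j
    let algOv : ∀ v : {v // c v = j}, Algebra (AJ O c j) (O v.1) := fun v =>
      (Pi.evalRingHom (fun v : {v // c v = j} => O v.1) v).toAlgebra
    have : ∀ v : {v // c v = j}, IsScalarTower A (AJ O c j) (O v.1) := fun v => 
      ⟨fun a b z => smul_mul_assoc a (b v) z⟩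
    exact member_fix G hS (C j) (O := fun v : {v // c v = j} => O v.1) Function.bijective_id q (fun v => t v.1)
      (fun v => ht v.1) τ hτ
  choose x hx hxc using hlift
  have hcov := DualTor32.family_mem hπ c C hfree hfinC hnt hfac Over.mkIdTerminal
  have hcomp : Presieve.Arrows.Compatible (I.obj ⋙ forget AddCommGrpCat.{u + 1})
      (fun j => Over.mkIdTerminal.from (spO (A := A) (C j))) x := by
    intro i j Z a b _
    show I.obj.map a.op (x i) = I.obj.map b.op (x j)
    by_cases hij : i = j
    · subst hij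
      exact hxc i Z a b
    · exact EtTr32.sect_ext I (DualTor32.bot_mem_over Z (isEmpty_pair hπ c C hfac hij a b))
        fun V h hh => absurd hh (by simp)
  have hsh := ((isSheaf_iff_isSheaf_of_type _ _).1 (EtTr32.isSheaf_types I)) _ hcov
  rw [Sieve.ofArrows, ← Presieve.isSheafFor_iff_generate] at hsh
  obtain ⟨t₀, ht₀, -⟩ := (Presieve.isSheafFor_arrows_iff _ _).1 hsh x hcomp
  refine ⟨t₀, EtTr32.sect_ext Qs hcov fun V f hf => ?_⟩
  obtain ⟨j, k, rfl⟩ := (Sieve.mem_ofArrows_iff _ _ _).1 hf
  rw [← map_map_apply, ← map_map_apply, ← app_map, show I.obj.map (Over.mkIdTerminal.from _).op t₀ = x j from ht₀ j,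
    hx j]

end Groth.Agent.Tors32
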