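import Groth.Agent.DualTor32.Main
import Groth.Agent.Tors32.Delta
import Groth.Agent.Tors32.Cech
import Groth.Prelude.Def_ActBC
import Groth.Prelude.Def_CGrpSh

/-!
Pairs of points of a covering algebra and the sheaf of points of a group after base change.
-/

set_option autoImplicit false
set_option backward.isDefEq.respectTransparency false
universe u

open CategoryTheory CategoryTheory.Limits AlgebraicGeometry Opposite TensorProduct
open MonoidalCategory CartesianMonoidalCategory MonObj
open Groth.Agent.DualTor32 (spO topO spOMap pr₁ pr₂)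

noncomputable section

namespace Groth.Agent.Tors32

/-- A point of the spectrum of a tensor product is determined by its projections. -/
theorem specPair_unique (R S : Type u) [CommRing R] [CommRing S] [Algebra R S] {X : Scheme.{u}}
    {h h' : X ⟶ Spec (CommRingCat.of (S ⊗[R] S))}
    (h₁ : h ≫ Spec.map (CommRingCat.ofHom (Algebra.TensorProduct.includeLeftRingHom : S →+* S ⊗[R] S)) =
      h' ≫ Spec.map (CommRingCat.ofHom (Algebra.TensorProduct.includeLeftRingHom : S →+* S ⊗[R] S)))
    (h₂ : h ≫ Spec.map (CommRingCat.ofHom (Algebra.TensorProduct.includeRight : S →ₐ[R] S ⊗[R] S).toRingHom) =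
      h' ≫ Spec.map (CommRingCat.ofHom (Algebra.TensorProduct.includeRight : S →ₐ[R] S ⊗[R] S).toRingHom)) :
    h = h' := by
  rw [← cancel_mono (pullbackSpecIso R S S).inv]
  apply pullback.hom_ext
  · rw [Category.assoc, Category.assoc, pullbackSpecIso_inv_fst]
    exact h₁
  · rw [Category.assoc, Category.assoc, pullbackSpecIso_inv_snd]
    exact h₂

variable {A : Type u} [CommRing A] (A' : Type u) [CommRing A'] [Algebra A A'] (C : Type u) [CommRing C]
  [Algebra A C] [Algebra A' C] [IsScalarTower A A' C]

theorem pair_unique {Z : Over (Spec (CommRingCat.of A))} {h h' : Z ⟶ spO (A := A) (C ⊗[A'] C)}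
    (h₁ : h ≫ pr₁ A' C = h' ≫ pr₁ A' C) (h₂ : h ≫ pr₂ A' C = h' ≫ pr₂ A' C) : h = h' :=
  Over.OverMorphism.ext (specPair_unique A' C (congrArg (fun k => k.left) h₁) (congrArg (fun k => k.left) h₂))

/-- A covering by a faithfully flat algebra of finite presentation. -/
theorem singleton_cover [Module.Free A C] [Module.Finite A C] [Nontrivial C] :
    Sieve.ofArrows (fun _ : PUnit.{1} => spO (A := A) C) (fun _ => Over.mkIdTerminal.from (spO C)) ∈
      QuotSh.J Scheme.fppfPrecoverage (Spec (CommRingCat.of A)) (topO A) := by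
  have : Module.FaithfullyFlat A C := inferInstance
  have : Module.FinitePresentation A C := Module.finitePresentation_of_projective _ _
  have : Flat (Spec.map (CommRingCat.ofHom (algebraMap A C))) :=
    (HasRingHomProperty.Spec_iff (P := @Flat)).2 (RingHom.flat_algebraMap_iff.2 inferInstance)
  have : LocallyOfFinitePresentation (Spec.map (CommRingCat.ofHom (algebraMap A C))) :=
    (HasRingHomProperty.Spec_iff (P := @LocallyOfFinitePresentation)).2
      (RingHom.finitePresentation_algebraMap.2 inferInstance)
  have : Surjective (Spec.map (CommRingCat.ofHom (algebraMap A C))) :=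
    ⟨PrimeSpectrum.comap_surjective_of_faithfullyFlat (B := C)⟩
  rw [GrothendieckTopology.mem_over_iff]
  refine GrothendieckTopology.superset_covering _ ?_ (Precoverage.generate_mem_toGrothendieck
    (Scheme.Hom.singleton_mem_fppfPrecoverage (Spec.map (CommRingCat.ofHom (algebraMap A C)))))
  rw [Sieve.generate_le_iff]
  rintro Y f ⟨⟩
  rw [Sieve.overEquiv_iff]
  exact (Sieve.mem_ofArrows_iff _ _ _).2 ⟨PUnit.unit, Over.homMk (𝟙 _)
    ((Category.id_comp _).trans (Category.comp_id _).symm), Over.mkIdTerminal.hom_ext _ _⟩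

variable {T T' : Scheme.{u}} (f : T' ⟶ T) (G : Over T) [GrpObj G] [IsCommMonObj G]

/-- Sections of the restricted sheaf of points are points of the base change. -/
def toPt (Z : Over T') (x : ((BigSite.pullBig Scheme.fppfPrecoverage f AddCommGrpCat.{u + 1}).obj
    (CGrpSh.pts Scheme.fppfPrecoverage G)).obj.obj (op Z)) : Z ⟶ Red.bc f G :=
  (Over.mapPullbackAdj f).homEquiv Z G (Additive.toMul x.down)

theorem toPt_bijective (Z : Over T') : Function.Bijective (toPt f G Z) :=
  ((Over.mapPullbackAdj f).homEquiv Z G).bijective.comp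
    ((Additive.toMul.bijective).comp ⟨fun _ _ h => ULift.ext _ _ h, fun y => ⟨ULift.up y, rfl⟩⟩)

theorem toPt_map {Z Z' : Over T'} (k : Z' ⟶ Z) (x : ((BigSite.pullBig Scheme.fppfPrecoverage f AddCommGrpCat.{u + 1}).obj
    (CGrpSh.pts Scheme.fppfPrecoverage G)).obj.obj (op Z)) :
    toPt f G Z' (((BigSite.pullBig Scheme.fppfPrecoverage f AddCommGrpCat.{u + 1}).obj
      (CGrpSh.pts Scheme.fppfPrecoverage G)).obj.map k.op x) = k ≫ toPt f G Z x :=
  (Over.mapPullbackAdj f).homEquiv_naturality_left k _

theorem toPt_add (Z : Over T') (x y : ((BigSite.pullBig Scheme.fppfPrecoverage f AddCommGrpCat.{u + 1}).obj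
    (CGrpSh.pts Scheme.fppfPrecoverage G)).obj.obj (op Z)) :
    toPt f G Z (x + y) = toPt f G Z x * toPt f G Z y :=
  AlgGrp.Action.homEquiv_mul _ _ _

end Groth.Agent.Tors32
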