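import Groth.Agent.Tors32.Twist
import Groth.Agent.Tors32.Pairs

/-!
Over a henselian local ring, the classes of a finite flat group are killed by finite free algebras
of bounded rank.
-/

set_option autoImplicit false
set_option backward.isDefEq.respectTransparency false
universe u

open CategoryTheory CategoryTheory.Limits AlgebraicGeometry Opposite MonoidalCategory CartesianMonoidalCategory MonObj
open TensorProduct
open Groth.Agent.DualTor32 (spO topO spOMap pr₁ pr₂ pair_lift)

noncomputable section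

namespace Groth.Agent.Tors32

variable {A₀ O : Type u} [CommRing A₀] [CommRing O] [Algebra A₀ O]

/-- The base change of the spectrum of an algebra. -/
theorem nonempty_bcIso (H₀ : Type u) [CommRing H₀] [Algebra A₀ H₀] (G : Over (Spec (CommRingCat.of A₀)))
    (eG : spO (A := A₀) H₀ ≅ G) :
    Nonempty (spO (A := O) (O ⊗[A₀] H₀) ≅ Red.bc (Spec.map (CommRingCat.ofHom (algebraMap A₀ O))) G) := by
  let fO := Spec.map (CommRingCat.ofHom (algebraMap A₀ O))
  have : IsIso eG.hom.left := inferInstanceAs (IsIso ((Over.forget _).mapIso eG).hom)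
  let m : pullback (spO (A := A₀) H₀).hom fO ⟶ pullback G.hom fO :=
    pullback.map _ _ _ _ eG.hom.left (𝟙 _) (𝟙 _) (by rw [Category.comp_id, Over.w]) (by simp)
  have : IsIso m := inferInstance
  refine ⟨Over.isoMk ((pullbackSpecIso A₀ O H₀).symm ≪≫ pullbackSymmetry _ _ ≪≫ asIso m) ?_⟩
  show ((pullbackSpecIso A₀ O H₀).inv ≫ (pullbackSymmetry _ _).hom ≫ m) ≫ pullback.snd G.hom fO = _
  rw [Category.assoc, Category.assoc, pullback.lift_snd, Category.comp_id]
  erw [pullbackSymmetry_hom_comp_snd]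
  exact pullbackSpecIso_inv_fst A₀ O H₀

theorem finrank_baseChange_le [Nontrivial O] {H₀ : Type u} [CommRing H₀] [Algebra A₀ H₀] {N : ℕ} (g : Fin N → H₀)
    (hg : Submodule.span A₀ (Set.range g) = ⊤) [Module.Free O (O ⊗[A₀] H₀)] [Module.Finite O (O ⊗[A₀] H₀)] :
    Module.finrank O (O ⊗[A₀] H₀) ≤ N := by
  have h : Submodule.span O (Set.range fun k => (1 : O) ⊗ₜ[A₀] g k) = (⊤ : Submodule O (O ⊗[A₀] H₀)) := by
    rw [eq_top_iff]
    rintro y -
    induction y using TensorProduct.induction_on with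
    | zero => exact zero_mem _
    | add u v hu hv => exact add_mem hu hv
    | tmul o z =>
      rw [← mul_one o, ← smul_eq_mul, ← TensorProduct.smul_tmul']
      refine Submodule.smul_mem _ _ ?_
      have hz : z ∈ Submodule.span A₀ (Set.range g) := hg ▸ Submodule.mem_top
      induction hz using Submodule.span_induction with
      | mem z hz => obtain ⟨k, rfl⟩ := hz; exact Submodule.subset_span ⟨k, rfl⟩
      | zero => rw [TensorProduct.tmul_zero]; exact zero_mem _
      | add u v _ _ hu hv => rw [TensorProduct.tmul_add]; exact add_mem hu hv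
      | smul a u _ hu =>
        rw [TensorProduct.tmul_smul, ← algebraMap_smul O a]
        exact Submodule.smul_mem _ _ hu
  exact (finrank_le_of_span_eq_top h).trans_eq (Fintype.card_fin N)

/-- The cocycle of a section of the base change of the group on the pairs of points. -/
theorem exists_cocycle {C : Type u} [CommRing C] [Algebra O C] (G : Over (Spec (CommRingCat.of O))) [GrpObj G]
    (k : spO (A := O) (C ⊗[O] C) ⟶ G)
    (hk : ∀ (Z : Over (Spec (CommRingCat.of O))) (q₁₂ q₂₃ q₁₃ : Z ⟶ spO (A := O) (C ⊗[O] C)),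
      q₁₂ ≫ pr₁ O C = q₁₃ ≫ pr₁ O C → q₁₂ ≫ pr₂ O C = q₂₃ ≫ pr₁ O C → q₁₃ ≫ pr₂ O C = q₂₃ ≫ pr₂ O C →
      q₁₃ ≫ k = (q₁₂ ≫ k) * (q₂₃ ≫ k)) :
    ∃ c : Push96.Cocycle (spO (A := O) C) G, ∀ {Z : Over (Spec (CommRingCat.of O))}
      (h : Z ⟶ spO (A := O) (C ⊗[O] C)), c.c (h ≫ pr₁ O C) (h ≫ pr₂ O C) = h ≫ k := by
  have : IsIso (Spec.map (CommRingCat.ofHom (algebraMap O O))) := by
    rw [show CommRingCat.ofHom (algebraMap O O) = 𝟙 _ from rfl, Spec.map_id]
    infer_instance
  choose pl hpl₁ hpl₂ using fun (Z : Over (Spec (CommRingCat.of O))) (a b : Z ⟶ spO (A := O) C) =>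
    pair_lift O C Z a b
  refine ⟨⟨fun {Z} a b => pl Z a b ≫ k, fun {Z Z'} m a b => ?_, fun {Z} a b c => ?_⟩, fun {Z} h => ?_⟩
  · show m ≫ pl Z a b ≫ k = pl Z' (m ≫ a) (m ≫ b) ≫ k
    rw [← Category.assoc]
    congr 1
    exact pair_unique O C (by rw [Category.assoc, hpl₁, hpl₁]) (by rw [Category.assoc, hpl₂, hpl₂])
  · exact (hk Z (pl Z a b) (pl Z b c) (pl Z a c) (by rw [hpl₁, hpl₁]) (by rw [hpl₂, hpl₁])
      (by rw [hpl₂, hpl₂])).symm
  · show pl Z (h ≫ pr₁ O C) (h ≫ pr₂ O C) ≫ k = h ≫ k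
    congr 1
    exact pair_unique O C (hpl₁ _ _ _) (hpl₂ _ _ _)

/-- A finite free algebra of bounded rank on which a section lifts. -/
theorem exists_bounded_lift [HenselianLocalRing O] (G : Over (Spec (CommRingCat.of A₀))) [GrpObj G] [IsCommMonObj G]
    [IsFinite G.hom] [Flat G.hom] (H₀ : Type u) [CommRing H₀] [Algebra A₀ H₀] [Module.Finite A₀ H₀]
    (eG : spO (A := A₀) H₀ ≅ G) {N : ℕ} (g : Fin N → H₀) (hg : Submodule.span A₀ (Set.range g) = ⊤)
    (I Qs : BigSite.Ab Scheme.fppfPrecoverage (Spec (CommRingCat.of O)))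
    (inc : (BigSite.pullBig Scheme.fppfPrecoverage (Spec.map (CommRingCat.ofHom (algebraMap A₀ O)))
      AddCommGrpCat.{u + 1}).obj (CGrpSh.pts Scheme.fppfPrecoverage G) ⟶ I)
    (prj : I ⟶ Qs) (w : inc ≫ prj = 0) (hS : (ShortComplex.mk inc prj w).ShortExact)
    (q : Qs.obj.obj (op (topO O))) :
    ∃ (L : Type u) (_ : CommRing L) (_ : Algebra O L), Module.Free O L ∧ Module.Finite O L ∧ Nontrivial L ∧
      Module.finrank O L ≤ N ∧
      ∃ t, prj.hom.app (op (spO (A := O) L)) t = Qs.obj.map (Over.mkIdTerminal.from (spO (A := O) L)).op q := by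
  let fO := Spec.map (CommRingCat.ofHom (algebraMap A₀ O))
  let GO := Red.bc fO G
  have : IsFinite GO.hom := MorphismProperty.pullback_snd (P := @IsFinite) _ _ ‹_›
  have : Flat GO.hom := MorphismProperty.pullback_snd (P := @Flat) _ _ ‹_›
  obtain ⟨eH⟩ := nonempty_bcIso (O := O) H₀ G eG
  have : Nontrivial (O ⊗[A₀] H₀) := by
    obtain ⟨p⟩ : Nonempty (PrimeSpectrum O) := inferInstance
    exact PrimeSpectrum.nonempty_iff_nontrivial.1 ⟨((η[GO] ≫ eH.inv).left p : _)⟩
  have : Epi prj := hS.epi_g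
  have : Sheaf.IsLocallySurjective prj := (Sheaf.isLocallySurjective_iff_epi' AddCommGrpCat.{u + 1} prj).2 inferInstance
  obtain ⟨C, _, _, hCf, hCfin, hCnt, t, ht⟩ :=
    exists_local_cover (Presheaf.imageSieve_mem _ prj.hom q)
  let W := spO (A := O) C
  have htop : ∀ {Z : Over (Spec (CommRingCat.of O))} (a : Z ⟶ W),
      prj.hom.app (op Z) (I.obj.map a.op t) = Qs.obj.map (Over.mkIdTerminal.from Z).op q := fun {Z} a => by
    rw [NatTrans.naturality_apply, ht, map_map_apply, Over.mkIdTerminal.hom_ext (a ≫ _) (Over.mkIdTerminal.from Z)]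
  obtain ⟨d, hd⟩ := exists_app_f_eq hS (U := spO (A := O) (C ⊗[O] C))
    (a := I.obj.map (pr₂ O C).op t - I.obj.map (pr₁ O C).op t)
    (by rw [map_sub]; erw [htop, htop]; exact sub_self _)
  have hinj : ∀ Z, Function.Injective (inc.hom.app (op Z)) := fun Z => app_f_injective hS Z
  have hd' : ∀ {Z : Over (Spec (CommRingCat.of O))} (h : Z ⟶ spO (A := O) (C ⊗[O] C)),
      inc.hom.app (op Z) (((BigSite.pullBig Scheme.fppfPrecoverage fO AddCommGrpCat.{u + 1}).obj
        (CGrpSh.pts Scheme.fppfPrecoverage G)).obj.map h.op d) =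
        I.obj.map (h ≫ pr₂ O C).op t - I.obj.map (h ≫ pr₁ O C).op t := fun {Z} h => by
    rw [NatTrans.naturality_apply]
    erw [hd]
    rw [map_sub, map_map_apply, map_map_apply]
  obtain ⟨c, hc⟩ := exists_cocycle GO (toPt fO G _ d) fun Z q₁₂ q₂₃ q₁₃ e₁ e₂ e₃ => by
    rw [← toPt_map, ← toPt_map, ← toPt_map, ← toPt_add]
    congr 1
    apply hinj
    rw [map_add, hd', hd', hd', ← e₁, e₃, e₂]
    abel
  obtain ⟨L, _, _, hLf, hLfin, hLnt, hrk, m, hm⟩ := exists_twist_algebra GO (O ⊗[A₀] H₀) eH c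
  have hfr : Module.Free O (O ⊗[A₀] H₀) := by
    have : Module.Finite O (O ⊗[A₀] H₀) := inferInstance
    have : Module.Flat O (O ⊗[A₀] H₀) := flat_of_flat (by
      rw [← Over.w eH.hom]; exact MorphismProperty.comp_mem @Flat _ _ inferInstance ‹_›)
    exact Module.free_of_flat_of_isLocalRing
  refine ⟨L, inferInstance, inferInstance, hLf, hLfin, hLnt, hrk.trans_le (finrank_baseChange_le g hg), ?_⟩
  let WL := W ⊗ spO (A := O) L
  obtain ⟨mu, hmu⟩ := (toPt_bijective fO G WL).2 m
  have hcov : Sieve.ofArrows (fun _ : PUnit.{1} => WL) (fun _ => snd W (spO (A := O) L)) ∈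
      QuotSh.J Scheme.fppfPrecoverage (Spec (CommRingCat.of O)) (spO (A := O) L) := by
    refine GrothendieckTopology.superset_covering _ ?_
      ((QuotSh.J Scheme.fppfPrecoverage (Spec (CommRingCat.of O))).pullback_stable
        (Over.mkIdTerminal.from (spO (A := O) L)) (singleton_cover (A := O) C))
    intro V k hk
    obtain ⟨_, a, -⟩ := (Sieve.mem_ofArrows_iff _ _ _).1 hk
    exact (Sieve.mem_ofArrows_iff _ _ _).2 ⟨PUnit.unit, lift a k, (lift_snd a k).symm⟩
  have : IsIso (Spec.map (CommRingCat.ofHom (algebraMap O O))) := by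
    rw [show CommRingCat.ofHom (algebraMap O O) = 𝟙 _ from rfl, Spec.map_id]
    infer_instance
  obtain ⟨t', ht'⟩ := exists_descend I (snd W (spO (A := O) L)) hcov
    (I.obj.map (fst W (spO (A := O) L)).op t - inc.hom.app (op WL) mu) fun Z a b hab => by
      obtain ⟨h, h₁, h₂⟩ := pair_lift O C Z (a ≫ fst _ _) (b ≫ fst _ _)
      have hmu' : ((BigSite.pullBig Scheme.fppfPrecoverage fO AddCommGrpCat.{u + 1}).obj
          (CGrpSh.pts Scheme.fppfPrecoverage G)).obj.map b.op mu =
          ((BigSite.pullBig Scheme.fppfPrecoverage fO AddCommGrpCat.{u + 1}).obj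
          (CGrpSh.pts Scheme.fppfPrecoverage G)).obj.map a.op mu +
          ((BigSite.pullBig Scheme.fppfPrecoverage fO AddCommGrpCat.{u + 1}).obj
          (CGrpSh.pts Scheme.fppfPrecoverage G)).obj.map h.op d := by
        apply (toPt_bijective fO G Z).1
        rw [toPt_add, toPt_map, toPt_map, toPt_map, hmu, hm a b hab, ← hc, h₁, h₂]
      have h4 := congrArg (inc.hom.app (op Z)) hmu'
      rw [map_add, hd', h₁, h₂, NatTrans.naturality_apply, NatTrans.naturality_apply] at h4
      rw [map_sub, map_sub, map_map_apply, map_map_apply, h4]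
      abel
  refine ⟨t', ext_of_cover Qs _ hcov ?_⟩
  rw [← NatTrans.naturality_apply, ht', map_sub, map_map_apply,
    Over.mkIdTerminal.hom_ext (snd W (spO (A := O) L) ≫ _) (Over.mkIdTerminal.from WL), htop]
  erw [app_g_f (S := ShortComplex.mk inc prj w) mu]
  rw [sub_zero]

end Groth.Agent.Tors32
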