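import Groth.Prelude.Def_CGrpSh
import Mathlib.AlgebraicGeometry.AffineScheme
import Mathlib.RingTheory.TensorProduct.Free

/-!
Points with values in spectra of products, and products of families of free algebras.
-/

set_option autoImplicit false
set_option backward.isDefEq.respectTransparency false
universe u v

open CategoryTheory CategoryTheory.Limits AlgebraicGeometry Opposite TensorProduct

noncomputable section

namespace Groth.Agent.Tors32

/-- A free module over a product is the product of the induced free modules. -/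
theorem bijective_pi_of_basis {R : Type u} [CommRing R] {V : Type u} {O : V → Type u} [∀ v, CommRing (O v)]
    (π : ∀ v, R →+* O v) (hπ : Function.Bijective (RingHom.pi π)) {M : Type u} [AddCommGroup M] [Module R M]
    {Mv : V → Type u} [∀ v, AddCommGroup (Mv v)] [∀ v, Module (O v) (Mv v)] {ι : Type v} [Fintype ι]
    (e : Module.Basis ι R M) (ev : ∀ v, Module.Basis ι (O v) (Mv v)) (φ : ∀ v, M →+ Mv v)
    (hφ : ∀ v (r : R) m, φ v (r • m) = π v r • φ v m) (he : ∀ v i, φ v (e i) = ev v i) :
    Function.Bijective (fun m v => φ v m) := by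
  have hexp : ∀ (a : ι → R) v, φ v (∑ i, a i • e i) = ∑ i, π v (a i) • ev v i := fun a v => by
    rw [map_sum]
    exact Finset.sum_congr rfl fun i _ => by rw [hφ, he]
  have hrepr : ∀ m v i, (ev v).repr (φ v m) i = π v (e.repr m i) := fun m v i => by
    conv_lhs => rw [← e.sum_repr m, hexp]
    rw [(ev v).repr_sum_self]
  refine ⟨fun m m' h => e.ext_elem fun i => hπ.1 (funext fun v => ?_), fun y => ?_⟩
  · show π v _ = π v _
    rw [← hrepr, ← hrepr, show φ v m = φ v m' from congrFun h v]
  · choose a ha using fun i => hπ.2 fun v => (ev v).repr (y v) i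
    refine ⟨∑ i, a i • e i, funext fun v => ?_⟩
    show φ v _ = y v
    rw [hexp]
    conv_rhs => rw [← (ev v).sum_repr (y v)]
    exact Finset.sum_congr rfl fun i _ => by rw [show π v (a i) = _ from congrFun (ha i) v]

/-- The ring homomorphism to the product of the base changes to the factors. -/
theorem bijective_baseChange {R : Type u} [CommRing R] {V : Type u} {O : V → Type u} [∀ v, CommRing (O v)]
    [∀ v, Algebra R (O v)] (hπ : Function.Bijective (RingHom.pi fun v => algebraMap R (O v))) (M : Type u) [CommRing M]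
    [Algebra R M] [Module.Finite R M] [Module.Free R M] :
    Function.Bijective (RingHom.pi fun v =>
      (Algebra.TensorProduct.includeRight : M →ₐ[R] O v ⊗[R] M).toRingHom) :=
  bijective_pi_of_basis (Mv := fun v => O v ⊗[R] M) (fun v => algebraMap R (O v)) hπ (Module.Free.chooseBasis R M)
    (fun v => (Module.Free.chooseBasis R M).baseChange (O v))
    (fun v => (Algebra.TensorProduct.includeRight : M →ₐ[R] O v ⊗[R] M).toRingHom.toAddMonoidHom)
    (fun v r m => by
      show (1 : O v) ⊗ₜ[R] (r • m) = algebraMap R (O v) r • ((1 : O v) ⊗ₜ[R] m)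
      rw [TensorProduct.tmul_smul, algebraMap_smul])
    (fun v i => by
      show (1 : O v) ⊗ₜ[R] _ = _
      rw [Module.Basis.baseChange_apply])

variable {S : Scheme.{u}} [IsAffine S] {G : Over S} [IsAffine G.left]
variable {C : Type u} [CommRing C] {V : Type u} {Cv : V → Type u} [∀ v, CommRing (Cv v)] (χ : ∀ v, C →+* Cv v)

/-- Morphisms to an affine scheme from the spectrum of a subring of a product. -/
theorem hom_ext_affine {X : Scheme.{u}} [IsAffine X] (hχ : Function.Injective (RingHom.pi χ))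
    {k k' : Spec (CommRingCat.of C) ⟶ X}
    (h : ∀ v, Spec.map (CommRingCat.ofHom (χ v)) ≫ k = Spec.map (CommRingCat.ofHom (χ v)) ≫ k') : k = k' := by
  obtain ⟨φ, hφ⟩ := Spec.map_surjective (k ≫ X.isoSpec.hom)
  obtain ⟨φ', hφ'⟩ := Spec.map_surjective (k' ≫ X.isoSpec.hom)
  rw [← cancel_mono X.isoSpec.hom, ← hφ, ← hφ']
  congr 1
  refine CommRingCat.hom_ext (RingHom.ext fun a => hχ (funext fun v => ?_))
  have h2 : Spec.map (φ ≫ CommRingCat.ofHom (χ v)) = Spec.map (φ' ≫ CommRingCat.ofHom (χ v)) := by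
    rw [Spec.map_comp, Spec.map_comp, hφ, hφ', reassoc_of% h v]
  exact ConcreteCategory.congr_hom (Spec.map_injective h2) a

theorem exists_hom_affine {X : Scheme.{u}} [IsAffine X] (hχ : Function.Bijective (RingHom.pi χ))
    (k : ∀ v, Spec (CommRingCat.of (Cv v)) ⟶ X) :
    ∃ k₀ : Spec (CommRingCat.of C) ⟶ X, ∀ v, Spec.map (CommRingCat.ofHom (χ v)) ≫ k₀ = k v := by
  choose φ hφ using fun v => Spec.map_surjective (k v ≫ X.isoSpec.hom)
  let e := RingEquiv.ofBijective (RingHom.pi χ) hχ
  let ψ : Γ(X, ⊤) →+* C := e.symm.toRingHom.comp (RingHom.pi fun v => (φ v).hom)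
  refine ⟨Spec.map (CommRingCat.ofHom ψ) ≫ X.isoSpec.inv, fun v => ?_⟩
  rw [← cancel_mono X.isoSpec.hom, Category.assoc, Category.assoc, Iso.inv_hom_id, Category.comp_id, ← Spec.map_comp,
    ← hφ]
  congr 1
  refine CommRingCat.hom_ext (RingHom.ext fun a => ?_)
  exact congrFun (e.apply_symm_apply (fun w => (φ w).hom a)) v

variable {U : Over S} {Uv : V → Over S} (i : ∀ v, Uv v ⟶ U)

/-- Points on an object which is the spectrum of a product are the families of points. -/
theorem over_hom_ext (eU : U.left = Spec (CommRingCat.of C)) (eV : ∀ v, (Uv v).left = Spec (CommRingCat.of (Cv v)))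
    (hi : ∀ v, (i v).left = eqToHom (eV v) ≫ Spec.map (CommRingCat.ofHom (χ v)) ≫ eqToHom eU.symm)
    (hχ : Function.Injective (RingHom.pi χ)) {k k' : U ⟶ G} (h : ∀ v, i v ≫ k = i v ≫ k') : k = k' := by
  apply Over.OverMorphism.ext
  rw [← cancel_epi (eqToHom eU.symm)]
  refine hom_ext_affine χ hχ fun v => ?_
  have := congrArg (fun m : Uv v ⟶ G => eqToHom (eV v).symm ≫ m.left) (h v)
  simpa [hi] using this

theorem over_exists_hom (eU : U.left = Spec (CommRingCat.of C)) (eV : ∀ v, (Uv v).left = Spec (CommRingCat.of (Cv v)))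
    (hi : ∀ v, (i v).left = eqToHom (eV v) ≫ Spec.map (CommRingCat.ofHom (χ v)) ≫ eqToHom eU.symm)
    (hχ : Function.Bijective (RingHom.pi χ)) (k : ∀ v, Uv v ⟶ G) : ∃ k₀ : U ⟶ G, ∀ v, i v ≫ k₀ = k v := by
  obtain ⟨k₀, hk₀⟩ := exists_hom_affine χ hχ fun v => eqToHom (eV v).symm ≫ (k v).left
  have hl : ∀ v, (i v).left ≫ eqToHom eU ≫ k₀ = (k v).left := fun v => by simp [hi, hk₀]
  refine ⟨Over.homMk (eqToHom eU ≫ k₀) ?_, fun v => Over.OverMorphism.ext (hl v)⟩
  show (eqToHom eU ≫ k₀) ≫ G.hom = U.hom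
  rw [← cancel_epi (eqToHom eU.symm)]
  refine hom_ext_affine χ hχ.1 fun v => ?_
  have h1 := congrArg (eqToHom (eV v).symm ≫ ·) ((congrArg (· ≫ G.hom) (hl v)).trans ((Over.w (k v)).trans (Over.w (i v)).symm))
  simpa [hi] using h1

end Groth.Agent.Tors32
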