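import Groth.Agent.Tors32.Pairs
import Groth.Agent.Tors32.Points

/-!
Objects of the site of a ring given by algebras over algebras, and points of a group on algebras which
are products.
-/

set_option autoImplicit false
set_option backward.isDefEq.respectTransparency false
universe u v

open CategoryTheory CategoryTheory.Limits AlgebraicGeometry Opposite TensorProduct
open Groth.Agent.DualTor32 (spO topO spOMap)

noncomputable section

namespace Groth.Agent.Tors32

variable {A : Type u} [CommRing A]

/-- The structure map of an algebra over an algebra. -/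
def spStr (B C : Type u) [CommRing B] [CommRing C] [Algebra A B] [Algebra B C] [Algebra A C]
    [IsScalarTower A B C] : spO (A := A) C ⟶ spO (A := A) B :=
  spOMap B (IsScalarTower.toAlgHom A B C)

theorem spOMap_comp {B C D : Type u} [CommRing B] [CommRing C] [CommRing D] [Algebra A B] [Algebra A C] [Algebra A D]
    (φ : B →ₐ[A] C) (ψ : C →ₐ[A] D) : spOMap C ψ ≫ spOMap B φ = spOMap B (ψ.comp φ) := by
  apply Over.OverMorphism.ext
  show Spec.map _ ≫ Spec.map _ = Spec.map _
  rw [← Spec.map_comp]
  rfl

theorem map_spOMap_comp {F : BigSite.Ab Scheme.fppfPrecoverage (Spec (CommRingCat.of A))} {B C D : Type u}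
    [CommRing B] [CommRing C] [CommRing D] [Algebra A B] [Algebra A C] [Algebra A D] (φ : B →ₐ[A] C) (ψ : C →ₐ[A] D)
    (x : F.obj.obj (op (spO (A := A) B))) :
    F.obj.map (spOMap C ψ).op (F.obj.map (spOMap B φ).op x) = F.obj.map (spOMap B (ψ.comp φ)).op x := by
  rw [map_map_apply, spOMap_comp]

/-- A pair of points over a common algebra. -/
theorem exists_pairPt (B S T : Type u) [CommRing B] [CommRing S] [CommRing T] [Algebra A B] [Algebra A S] [Algebra A T]
    [Algebra B S] [Algebra B T] [IsScalarTower A B S] [IsScalarTower A B T] (Z : Over (Spec (CommRingCat.of A)))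
    (a : Z ⟶ spO (A := A) S) (b : Z ⟶ spO (A := A) T) (hab : a ≫ spStr B S = b ≫ spStr B T) :
    ∃ h : Z ⟶ spO (A := A) (S ⊗[B] T),
      h ≫ spOMap S ((Algebra.TensorProduct.includeLeft : S →ₐ[B] S ⊗[B] T).restrictScalars A) = a ∧
      h ≫ spOMap T ((Algebra.TensorProduct.includeRight : T →ₐ[B] S ⊗[B] T).restrictScalars A) = b := by
  have hw : a.left ≫ Spec.map (CommRingCat.ofHom (algebraMap B S)) =
      b.left ≫ Spec.map (CommRingCat.ofHom (algebraMap B T)) := congrArg (fun k => k.left) hab
  let hl := pullback.lift a.left b.left hw ≫ (pullbackSpecIso B S T).hom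
  have h₁ : hl ≫ Spec.map (CommRingCat.ofHom (Algebra.TensorProduct.includeLeftRingHom : S →+* S ⊗[B] T)) = a.left := by
    simp only [hl, Category.assoc, pullbackSpecIso_hom_fst, pullback.lift_fst]
  have h₂ : hl ≫ Spec.map (CommRingCat.ofHom
      (Algebra.TensorProduct.includeRight : T →ₐ[B] S ⊗[B] T).toRingHom) = b.left := by
    rw [Category.assoc]
    refine (congrArg (pullback.lift a.left b.left hw ≫ ·) (pullbackSpecIso_hom_snd B S T)).trans ?_
    rw [pullback.lift_snd]
  refine ⟨Over.homMk hl ?_, Over.OverMorphism.ext h₁, Over.OverMorphism.ext h₂⟩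
  show hl ≫ Spec.map (CommRingCat.ofHom (algebraMap A (S ⊗[B] T))) = _
  rw [show algebraMap A (S ⊗[B] T) = (Algebra.TensorProduct.includeLeftRingHom : S →+* S ⊗[B] T).comp (algebraMap A S) from
      (((Algebra.TensorProduct.includeLeft : S →ₐ[B] S ⊗[B] T).restrictScalars A).comp_algebraMap).symm,
    CommRingCat.ofHom_comp, Spec.map_comp, ← Category.assoc, h₁]
  exact Over.w a

/-- A finite free algebra covers. -/
theorem rel_cover (B C : Type u) [CommRing B] [CommRing C] [Algebra A B] [Algebra B C] [Algebra A C]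
    [IsScalarTower A B C] [Module.Free B C] [Module.Finite B C] [Nontrivial C] :
    Sieve.ofArrows (fun _ : PUnit.{1} => spO (A := A) C) (fun _ => spStr B C) ∈
      QuotSh.J Scheme.fppfPrecoverage (Spec (CommRingCat.of A)) (spO (A := A) B) := by
  have : Module.FinitePresentation B C := Module.finitePresentation_of_projective _ _
  have : Flat (Spec.map (CommRingCat.ofHom (algebraMap B C))) :=
    (HasRingHomProperty.Spec_iff (P := @Flat)).2 (RingHom.flat_algebraMap_iff.2 inferInstance)
  have : LocallyOfFinitePresentation (Spec.map (CommRingCat.ofHom (algebraMap B C))) :=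
    (HasRingHomProperty.Spec_iff (P := @LocallyOfFinitePresentation)).2
      (RingHom.finitePresentation_algebraMap.2 inferInstance)
  have : Surjective (Spec.map (CommRingCat.ofHom (algebraMap B C))) :=
    ⟨PrimeSpectrum.comap_surjective_of_faithfullyFlat (B := C)⟩
  rw [GrothendieckTopology.mem_over_iff]
  refine GrothendieckTopology.superset_covering _ ?_ (Precoverage.generate_mem_toGrothendieck
    (Scheme.Hom.singleton_mem_fppfPrecoverage (Spec.map (CommRingCat.ofHom (algebraMap B C)))))
  rw [Sieve.generate_le_iff]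
  rintro Y f ⟨⟩
  rw [Sieve.overEquiv_iff]
  refine (Sieve.mem_ofArrows_iff _ _ _).2 ⟨PUnit.unit, Over.homMk (𝟙 _) ?_, ?_⟩
  · exact (Category.id_comp _).trans (Over.w (spStr (A := A) B C)).symm
  · apply Over.OverMorphism.ext
    exact (Category.id_comp _).symm

variable {A₀ : Type u} [CommRing A₀] [Algebra A₀ A] (G : Over (Spec (CommRingCat.of A₀))) [GrpObj G]
  [IsCommMonObj G]

/-- The restricted sheaf of points. -/
abbrev FA : BigSite.Ab Scheme.fppfPrecoverage (Spec (CommRingCat.of A)) :=
  (BigSite.pullBig Scheme.fppfPrecoverage (Spec.map (CommRingCat.ofHom (algebraMap A₀ A)))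
    AddCommGrpCat.{u + 1}).obj (CGrpSh.pts Scheme.fppfPrecoverage G)

variable [IsAffine G.left] {C : Type u} [CommRing C] [Algebra A C] {V : Type u} {Cv : V → Type u}
  [∀ v, CommRing (Cv v)] [∀ v, Algebra A (Cv v)] (χ : ∀ v, C →ₐ[A] Cv v)

theorem sec_ext (hχ : Function.Injective (RingHom.pi fun v => (χ v).toRingHom))
    {x y : (FA (A := A) G).obj.obj (op (spO (A := A) C))}
    (h : ∀ v, (FA G).obj.map (spOMap C (χ v)).op x = (FA G).obj.map (spOMap C (χ v)).op y) : x = y := by
  refine ULift.ext _ _ (Additive.toMul.injective ?_)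
  refine over_hom_ext (fun v => (χ v).toRingHom)
    (fun v => (Over.map (Spec.map (CommRingCat.ofHom (algebraMap A₀ A)))).map (spOMap C (χ v)))
    rfl (fun _ => rfl) (fun v => by simp; rfl) hχ fun v => ?_
  exact congrArg (fun z => Additive.toMul z.down) (h v)

theorem sec_exists (hχ : Function.Bijective (RingHom.pi fun v => (χ v).toRingHom))
    (x : ∀ v, (FA (A := A) G).obj.obj (op (spO (A := A) (Cv v)))) :
    ∃ y : (FA (A := A) G).obj.obj (op (spO (A := A) C)), ∀ v, (FA G).obj.map (spOMap C (χ v)).op y = x v := by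
  obtain ⟨k, hk⟩ := over_exists_hom (G := G) (fun v => (χ v).toRingHom)
    (fun v => (Over.map (Spec.map (CommRingCat.ofHom (algebraMap A₀ A)))).map (spOMap C (χ v)))
    rfl (fun _ => rfl) (fun v => by simp; rfl) hχ (fun v => Additive.toMul (x v).down)
  exact ⟨ULift.up (Additive.ofMul k), fun v => ULift.ext _ _ (Additive.toMul.injective (hk v))⟩

end Groth.Agent.Tors32
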