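import Groth.Agent.DualTor32.Refine
import Groth.Agent.Push96.Twist
import Groth.Agent.Unr55.DescProps
import Groth.Agent.Desc59.FpqcMor
import Mathlib.RingTheory.Flat.FaithfullyFlat.Basic
import Mathlib.LinearAlgebra.Dimension.Constructions

/-!
The twist of a finite flat group by a cocycle on a finite free covering of a henselian local ring is
the spectrum of a finite free algebra of rank at most the number of generators of the group.
-/

set_option autoImplicit false
set_option backward.isDefEq.respectTransparency false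
universe u

open CategoryTheory CategoryTheory.Limits AlgebraicGeometry MonoidalCategory CartesianMonoidalCategory MonObj
open TensorProduct
open Groth.Agent.DualTor32 (spO topO exists_qf_mem exists_local_point)

noncomputable section

namespace Groth.Agent.Tors32

/-- A covering sieve of a henselian local ring contains a finite free algebra. -/
theorem exists_local_cover {O : Type u} [CommRing O] [HenselianLocalRing O] {R : Sieve (topO O)}
    (hR : R ∈ QuotSh.J Scheme.fppfPrecoverage (Spec (CommRingCat.of O)) (topO O)) :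
    ∃ (C : Type u) (_ : CommRing C) (_ : Algebra O C), Module.Free O C ∧ Module.Finite O C ∧ Nontrivial C ∧
      R.arrows (Over.mkIdTerminal.from (spO (A := O) C)) := by
  obtain ⟨B, _, _, hfp, hfl, hqf, ⟨q, hq⟩, hRB⟩ := exists_qf_mem hR (IsLocalRing.closedPoint O)
  obtain ⟨B', hB', r, hrq, hr⟩ :=
    Algebra.QuasiFiniteAt.exists_fg_and_exists_notMem_and_awayMap_bijective (R := O) q.asIdeal
  have : Module.Finite O B' := ⟨(Submodule.fg_top _).mpr hB'⟩
  obtain ⟨N, gen, hgen⟩ := Module.Finite.exists_fin (R := O) (M := B')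
  obtain ⟨L, _, algOL, algAL, tow, hnt, hflat, θ, g, hg⟩ := exists_local_point B' gen hgen r hr O
    IsLocalRing.residue_surjective q hrq (hq.trans (PrimeSpectrum.ext (by
      show IsLocalRing.maximalIdeal O = Ideal.comap (IsLocalRing.residue O) (IsLocalRing.maximalIdeal _)
      rw [IsLocalRing.maximalIdeal_eq_bot, ← RingHom.ker_eq_comap_bot, IsLocalRing.ker_residue])))
  classical
  have heq : algAL = algOL := Algebra.algebra_ext _ _ fun a =>
    @IsScalarTower.algebraMap_apply O O L _ _ _ (Algebra.id O) algOL algAL tow a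
  subst heq
  have : Module.Finite O L := ⟨⟨Finset.univ.image g, by simpa using hg⟩⟩
  refine ⟨L, inferInstance, inferInstance, Module.free_of_flat_of_isLocalRing, inferInstance, hnt, ?_⟩
  have hcomp : θ.toRingHom.comp (algebraMap O B) = algebraMap O L := RingHom.ext θ.commutes
  let χ : spO (A := O) L ⟶ spO (A := O) B := Over.homMk (Spec.map (CommRingCat.ofHom θ.toRingHom)) (by
    show Spec.map _ ≫ Spec.map _ = Spec.map _
    rw [← Spec.map_comp, ← CommRingCat.ofHom_comp, hcomp])
  have := R.downward_closed hRB χ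
  convert this using 1
  exact Over.mkIdTerminal.hom_ext _ _

variable {O : Type u} [CommRing O]

/-- An object with affine total space is the spectrum of an algebra. -/
theorem exists_spO_iso (U : Over (Spec (CommRingCat.of O))) [IsAffine U.left] :
    ∃ (L : Type u) (_ : CommRing L) (_ : Algebra O L), Nonempty (spO (A := O) L ≅ U) := by
  obtain ⟨φ, hφ⟩ := Spec.map_surjective (U.left.isoSpec.inv ≫ U.hom)
  let _ : Algebra O Γ(U.left, ⊤) := φ.hom.toAlgebra
  exact ⟨Γ(U.left, ⊤), inferInstance, inferInstance, ⟨Over.isoMk U.left.isoSpec.symm hφ.symm⟩⟩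

theorem finite_of_isFinite {L : Type u} [CommRing L] [Algebra O L] (h : IsFinite (spO (A := O) L).hom) :
    Module.Finite O L :=
  RingHom.finite_algebraMap.mp ((IsFinite.SpecMap_iff (f := CommRingCat.ofHom (algebraMap O L))).mp h)

theorem flat_of_flat {L : Type u} [CommRing L] [Algebra O L] (h : Flat (spO (A := O) L).hom) :
    Module.Flat O L :=
  RingHom.flat_algebraMap_iff.mp
    ((HasRingHomProperty.Spec_iff (P := @Flat) (φ := CommRingCat.ofHom (algebraMap O L))).mp h)

/-- Isomorphic objects over the cover have isomorphic algebras. -/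
theorem nonempty_linearEquiv {C L H : Type u} [CommRing C] [Algebra O C] [CommRing L] [Algebra O L] [CommRing H]
    [Algebra O H] (e : spO (A := O) C ⊗ spO (A := O) L ≅ spO (A := O) C ⊗ spO (A := O) H)
    (he : e.hom ≫ fst _ _ = fst _ _) : Nonempty ((C ⊗[O] L) ≃ₗ[C] (C ⊗[O] H)) := by
  let i : Spec (CommRingCat.of (C ⊗[O] L)) ≅ Spec (CommRingCat.of (C ⊗[O] H)) :=
    (pullbackSpecIso O C L).symm ≪≫ (Over.forget _).mapIso e ≪≫ pullbackSpecIso O C H
  obtain ⟨φ, hφ⟩ := Spec.map_surjective i.hom
  have hφiso : IsIso φ := by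
    have : IsIso (Scheme.Spec.map φ.op) := by
      show IsIso (Spec.map φ)
      rw [hφ]; infer_instance
    have := isIso_of_fully_faithful Scheme.Spec φ.op
    exact isIso_of_op φ
  have hinc : φ.hom.comp (Algebra.TensorProduct.includeLeftRingHom : C →+* C ⊗[O] H) =
      (Algebra.TensorProduct.includeLeftRingHom : C →+* C ⊗[O] L) := by
    have h : Spec.map φ ≫ Spec.map (CommRingCat.ofHom (Algebra.TensorProduct.includeLeftRingHom : C →+* C ⊗[O] H)) =
        Spec.map (CommRingCat.ofHom (Algebra.TensorProduct.includeLeftRingHom : C →+* C ⊗[O] L)) := by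
      rw [hφ]
      show ((pullbackSpecIso O C L).inv ≫ e.hom.left ≫ (pullbackSpecIso O C H).hom) ≫ _ = _
      rw [Category.assoc, Category.assoc, pullbackSpecIso_hom_fst]
      have hl : e.hom.left ≫ pullback.fst _ _ = pullback.fst _ _ := congrArg (fun k => k.left) he
      erw [hl]
      exact pullbackSpecIso_inv_fst O C L
    exact congrArg CommRingCat.Hom.hom (Spec.map_injective ((Spec.map_comp _ _).trans h))
  let f : (C ⊗[O] H) →ₐ[C] (C ⊗[O] L) :=
    { toRingHom := φ.hom, commutes' := fun c => DFunLike.congr_fun hinc c }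
  have hb : Function.Bijective f := ConcreteCategory.bijective_of_isIso φ
  exact ⟨(AlgEquiv.ofBijective f hb).symm.toLinearEquiv⟩

/-- The twist by a cocycle. -/
theorem exists_twist_algebra [IsLocalRing O] {C : Type u} [CommRing C] [Algebra O C] [Module.Free O C]
    [Module.Finite O C] [Nontrivial C] (G : Over (Spec (CommRingCat.of O))) [GrpObj G] [IsFinite G.hom]
    [Flat G.hom] (H : Type u) [CommRing H] [Algebra O H] (eH : spO (A := O) H ≅ G) [Nontrivial H]
    (c : Push96.Cocycle (spO (A := O) C) G) :
    ∃ (L : Type u) (_ : CommRing L) (_ : Algebra O L), Module.Free O L ∧ Module.Finite O L ∧ Nontrivial L ∧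
      Module.finrank O L = Module.finrank O H ∧
      ∃ m : spO (A := O) C ⊗ spO (A := O) L ⟶ G, ∀ {Z : Over (Spec (CommRingCat.of O))}
        (a b : Z ⟶ spO (A := O) C ⊗ spO (A := O) L), a ≫ snd _ _ = b ≫ snd _ _ →
        b ≫ m = (a ≫ m) * c.c (a ≫ fst _ _) (b ≫ fst _ _) := by
  let Q := spO (A := O) C
  have hfinH : Module.Finite O H := finite_of_isFinite (by
    rw [← Over.w eH.hom]; exact MorphismProperty.comp_mem @IsFinite _ _ inferInstance ‹_›)
  have hfree : Module.Free O H := by
    have : Module.Flat O H := flat_of_flat (by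
      rw [← Over.w eH.hom]; exact MorphismProperty.comp_mem @Flat _ _ inferInstance ‹_›)
    exact Module.free_of_flat_of_isLocalRing
  have : Module.FaithfullyFlat O C := inferInstance
  have hQf : Flat Q.hom := (HasRingHomProperty.Spec_iff (P := @Flat)).2 (RingHom.flat_algebraMap_iff.2 inferInstance)
  have hQs : Surjective Q.hom := ⟨PrimeSpectrum.comap_surjective_of_faithfullyFlat (B := C)⟩
  have : IsAffineHom G.hom := inferInstance
  have : IsAffineHom Q.hom := inferInstanceAs (IsAffineHom (Spec.map _))
  obtain ⟨U, e, he, hec⟩ := Push96.exists_twist c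
  -- the twist is isomorphic to the group over the cover
  have hinv : ∀ {Z Z' : Over (Spec (CommRingCat.of O))} (k : Z' ⟶ Z) (q : Z ⟶ Q) (g : Z ⟶ G),
      (e (k ≫ q)).symm (k ≫ g) = k ≫ (e q).symm g := fun k q g =>
    (e (k ≫ q)).injective (by rw [Equiv.apply_symm_apply, he, Equiv.apply_symm_apply])
  let i : Q ⊗ U ≅ Q ⊗ G :=
    { hom := lift (fst _ _) (e (fst _ _) (snd _ _))
      inv := lift (fst _ _) ((e (fst _ _)).symm (snd _ _))
      hom_inv_id := by
        refine CartesianMonoidalCategory.hom_ext _ _ (by simp) ?_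
        rw [Category.assoc, lift_snd, ← hinv, lift_fst, lift_snd, Equiv.symm_apply_apply, Category.id_comp]
      inv_hom_id := by
        refine CartesianMonoidalCategory.hom_ext _ _ (by simp) ?_
        rw [Category.assoc, lift_snd, ← he, lift_fst, lift_snd, Equiv.apply_symm_apply, Category.id_comp] }
  have hif : i.hom ≫ fst Q G = fst Q U := lift_fst _ _
  -- finiteness descends
  have hfst : IsFinite (pullback.fst Q.hom U.hom) := by
    have h : pullback.fst Q.hom U.hom = i.hom.left ≫ pullback.fst Q.hom G.hom :=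
      (congrArg (fun k => k.left) hif).symm
    rw [h]
    have : IsIso i.hom.left := inferInstanceAs (IsIso ((Over.forget _).mapIso i).hom)
    exact MorphismProperty.comp_mem @IsFinite _ _ inferInstance (MorphismProperty.pullback_fst _ _ ‹_›)
  have : IsFinite U.hom := by
    have := Unr55.isFinite.{u}
    exact MorphismProperty.of_isPullback_of_descendsAlong (P := @IsFinite) (Q := Unr55.fpqc)
      (IsPullback.of_hasPullback Q.hom U.hom) ⟨⟨hQs, hQf⟩, inferInstance⟩ hfst
  have : IsAffine U.left := isAffine_of_isAffineHom U.hom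
  obtain ⟨L, _, _, ⟨eU⟩⟩ := exists_spO_iso U
  have hLfin : Module.Finite O L := finite_of_isFinite (by
    rw [← Over.w eU.hom]; exact MorphismProperty.comp_mem @IsFinite _ _ inferInstance ‹_›)
  let j : Q ⊗ spO (A := O) L ≅ Q ⊗ spO (A := O) H :=
    (Iso.refl Q ⊗ᵢ eU) ≪≫ i ≪≫ (Iso.refl Q ⊗ᵢ eH.symm)
  obtain ⟨l⟩ := nonempty_linearEquiv j (by
    show ((𝟙 Q ⊗ₘ eU.hom) ≫ i.hom ≫ (𝟙 Q ⊗ₘ eH.inv)) ≫ fst Q (spO (A := O) H) = fst Q (spO (A := O) L)
    rw [Category.assoc, Category.assoc, tensorHom_fst, Category.comp_id, hif, tensorHom_fst, Category.comp_id])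
  have : Module.Flat C (C ⊗[O] L) := Module.Flat.of_linearEquiv l
  have : Module.Flat O L := Module.Flat.of_flat_tensorProduct O L C
  have hLfree : Module.Free O L := Module.free_of_flat_of_isLocalRing
  have hrk : Module.finrank O L = Module.finrank O H := by
    rw [← Module.finrank_baseChange (R := C) (S := O) (M' := L), ← Module.finrank_baseChange (R := C) (S := O) (M' := H)]
    exact LinearEquiv.finrank_eq l
  have hnt : Nontrivial L := by
    have : 0 < Module.finrank O L := by
      rw [hrk, Module.finrank_eq_card_chooseBasisIndex]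
      exact Fintype.card_pos_iff.2 (Module.Free.chooseBasis O H).index_nonempty
    exact Module.nontrivial_of_finrank_pos this
  refine ⟨L, inferInstance, inferInstance, hLfree, hLfin, hnt, hrk, e (fst _ _) (snd _ _ ≫ eU.hom),
    fun {Z} a b hab => ?_⟩
  rw [← he, ← he, ← Category.assoc, ← Category.assoc, ← hab]
  exact hec _ _ _

end Groth.Agent.Tors32
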